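import Mathlib
import Groth.Agent.Lib.Helper26.FlatLocalLength
import Groth.Agent.Lib.Helper7.LocQuotDim

set_option autoImplicit false
set_option linter.style.haveILetI false
universe u
open TensorProduct IsLocalRing

namespace Groth.Agent.Lib.Helper18.FieldBC

section

variable (k K : Type u) [Field k] [Field K] [Algebra k K] (A : Type u) [CommRing A] [Algebra k A]

/-- `(A ⊗ K)/q(A ⊗ K)` embeds into `κ(q) ⊗ K`. -/
theorem isReduced_tensor_quotient (q : Ideal A) [q.IsPrime]
    (hsep : IsReduced (q.ResidueField ⊗[k] K)) :
    IsReduced ((A ⊗[k] K) ⧸ q.map (algebraMap A (A ⊗[k] K))) := by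
  let φ₁ : A ⊗[k] K →ₐ[k] (A ⧸ q) ⊗[k] K :=
    Algebra.TensorProduct.map (Ideal.Quotient.mkₐ k q) (AlgHom.id k K)
  let φ₂ : (A ⧸ q) ⊗[k] K →ₐ[k] q.ResidueField ⊗[k] K :=
    Algebra.TensorProduct.map (IsScalarTower.toAlgHom k (A ⧸ q) q.ResidueField) (AlgHom.id k K)
  have hφ₂ : Function.Injective φ₂ := by
    have hinj : Function.Injective (IsScalarTower.toAlgHom k (A ⧸ q) q.ResidueField) :=
      IsFractionRing.injective (A ⧸ q) q.ResidueField
    exact Module.Flat.rTensor_preserves_injective_linearMap
      (IsScalarTower.toAlgHom k (A ⧸ q) q.ResidueField).toLinearMap hinj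
  have hker : RingHom.ker (φ₂.comp φ₁).toRingHom = q.map (algebraMap A (A ⊗[k] K)) := by
    have h1 : RingHom.ker (φ₂.comp φ₁).toRingHom = RingHom.ker φ₁.toRingHom := by
      ext x
      simp only [RingHom.mem_ker]
      constructor
      · intro h
        apply hφ₂
        rw [map_zero]
        exact h
      · intro h
        show φ₂ (φ₁ x) = 0
        have : φ₁ x = 0 := h
        rw [this, map_zero]
    rw [h1]
    have h2 := Algebra.TensorProduct.rTensor_ker (R := k) (S := k) (C := K) (Ideal.Quotient.mkₐ k q)
      (Ideal.Quotient.mkₐ_surjective k q)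
    have h3 : RingHom.ker (Ideal.Quotient.mkₐ k q) = q := Ideal.Quotient.mkₐ_ker k q
    rw [h3] at h2
    exact h2
  let ψ := RingHom.kerLift (φ₂.comp φ₁).toRingHom
  have hψ : Function.Injective ψ := RingHom.kerLift_injective _
  rw [← hker]
  exact isReduced_of_injective ψ hψ

end

section flat

variable {A T : Type u} [CommRing A] [CommRing T] [Algebra A T] [Module.Flat A T]

/-- A minimal prime of a flat algebra contracts to a minimal prime. -/
theorem under_mem_minimalPrimes (Q : Ideal T) [Q.IsPrime]
    (hQ : Q ∈ minimalPrimes T) : Q.under A ∈ minimalPrimes A := by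
  refine ⟨⟨inferInstance, bot_le⟩, fun q' hq' hle => ?_⟩
  haveI := hq'.1
  haveI : Q.LiesOver (Q.under A) := ⟨rfl⟩
  obtain ⟨Q', hQ'Q, hQ', hQ'q⟩ := Ideal.exists_ideal_le_liesOver_of_le (p := q') Q hle
  have h1 : Q ≤ Q' := hQ.2 ⟨hQ', bot_le⟩ hQ'Q
  have h2 : Q' = Q := le_antisymm hQ'Q h1
  rw [← h2, ← hQ'q.over]

attribute [local instance] Localization.AtPrime.algebraOfLiesOver

/-- For a flat algebra `T` over a Noetherian ring `A`, a minimal prime `Q` of `T` over `q` with
`T/qT` reduced: the local rings `T_Q` and `A_q` have the same length. -/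
theorem length_atPrime_eq_of_flat [IsNoetherianRing A]
    (Q : Ideal T) [Q.IsPrime] (hQ : Q ∈ minimalPrimes T)
    (q : Ideal A) [q.IsPrime] [Q.LiesOver q]
    (hred0 : IsReduced (T ⧸ q.map (algebraMap A T))) :
    Module.length (Localization.AtPrime Q) (Localization.AtPrime Q) =
      Module.length (Localization.AtPrime q) (Localization.AtPrime q) := by
  have hqQ : q = Q.under A := Ideal.LiesOver.over
  have hqmin : q ∈ minimalPrimes A := hqQ ▸ under_mem_minimalPrimes Q hQ
  -- `A_q` has finite length
  have hfin : IsFiniteLength (Localization.AtPrime q) (Localization.AtPrime q) := by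
    rw [← isArtinianRing_iff_isFiniteLength, isArtinianRing_iff_krullDimLE_zero,
      Ring.krullDimLE_iff, IsLocalization.AtPrime.ringKrullDim_eq_height q,
      Ideal.height_eq_zero_iff.2 hqmin]
    rfl
  haveI : IsLocalHom (algebraMap (Localization.AtPrime q) (Localization.AtPrime Q)) := by
    rw [RingHom.algebraMap_toAlgebra]
    exact Localization.isLocalHom_localRingHom q Q (algebraMap A T) Ideal.LiesOver.over
  set I : Ideal T := q.map (algebraMap A T) with hI
  have hIQ : I ≤ Q := by
    rw [hI, Ideal.map_le_iff_le_comap]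
    exact hqQ.le
  -- the extension of the maximal ideal
  have hJ : (maximalIdeal (Localization.AtPrime q)).map
      (algebraMap (Localization.AtPrime q) (Localization.AtPrime Q)) =
      I.map (algebraMap T (Localization.AtPrime Q)) := by
    rw [← Localization.AtPrime.map_eq_maximalIdeal, Ideal.map_map, hI, Ideal.map_map,
      ← IsScalarTower.algebraMap_eq, ← IsScalarTower.algebraMap_eq]
  have hm : (maximalIdeal (Localization.AtPrime q)).map
      (algebraMap (Localization.AtPrime q) (Localization.AtPrime Q)) =
      maximalIdeal (Localization.AtPrime Q) := by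
    apply le_antisymm (IsLocalRing.map_maximalIdeal_le _)
    rw [hJ]
    intro x hx
    -- `x` is nilpotent
    have hrad := IsLocalization.AtPrime.radical_map_of_mem_minimalPrimes
      (A := Localization.AtPrime Q) Q ⊥ hQ
    rw [Ideal.map_bot, Localization.AtPrime.map_eq_maximalIdeal] at hrad
    have hx' : x ∈ (⊥ : Ideal (Localization.AtPrime Q)).radical := hrad ▸ hx
    obtain ⟨n, hn⟩ := hx'
    have hxn : x ^ n = 0 := hn
    -- the quotient is reduced
    haveI hP' : (Q.map (Ideal.Quotient.mk I)).IsPrime :=
      Ideal.map_isPrime_of_surjective Ideal.Quotient.mk_surjective (by rwa [Ideal.mk_ker])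
    haveI : IsLocalization (Algebra.algebraMapSubmonoid (T ⧸ I) Q.primeCompl)
        (Localization.AtPrime Q ⧸ I.map (algebraMap T (Localization.AtPrime Q))) :=
      inferInstance
    haveI hred : IsReduced
        (Localization.AtPrime Q ⧸ I.map (algebraMap T (Localization.AtPrime Q))) :=
      isReduced_localizationPreserves (Algebra.algebraMapSubmonoid (T ⧸ I) Q.primeCompl)
        (Localization.AtPrime Q ⧸ I.map (algebraMap T (Localization.AtPrime Q))) hred0
    have h0 : (Ideal.Quotient.mk (I.map (algebraMap T (Localization.AtPrime Q))) x) ^ n = 0 := by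
      rw [← map_pow, hxn, map_zero]
    have h1 : Ideal.Quotient.mk (I.map (algebraMap T (Localization.AtPrime Q))) x = 0 :=
      IsNilpotent.eq_zero ⟨n, h0⟩
    exact Ideal.Quotient.eq_zero_iff_mem.1 h1
  have hlen := Groth.Agent.Lib.Helper26.FlatLocalLength.length_baseChange
    (A := Localization.AtPrime q) (B := Localization.AtPrime Q) hm (Localization.AtPrime q) hfin
  rw [← hlen]
  exact (TensorProduct.AlgebraTensorModule.rid (Localization.AtPrime q) (Localization.AtPrime Q)
    (Localization.AtPrime Q)).length_eq.symm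

/-- The length of a ring over itself is invariant under ring isomorphisms. -/
theorem length_self_eq_of_ringEquiv {R S : Type*} [CommRing R] [CommRing S] (e : R ≃+* S) :
    Module.length R R = Module.length S S := by
  apply WithBot.coe_injective
  rw [Module.coe_length, Module.coe_length]
  exact (Order.krullDim_eq_of_orderIso e.idealComapOrderIso).symm

end flat

end Groth.Agent.Lib.Helper18.FieldBC
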