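import Groth.Agent.Lib.Helper18.FieldBC.Components

set_option autoImplicit false
set_option linter.style.haveILetI false
universe u
open AlgebraicGeometry CategoryTheory CategoryTheory.Limits

namespace Groth.Agent.Lib.Helper18.FieldBC

variable {k K : Type u} [Field k] [Field K] [Algebra k K] {X : Scheme.{u}}
  (f : X ⟶ Spec (CommRingCat.of k))

theorem surjective_bcπ : Function.Surjective (FBase.bcπ f K) := by
  haveI : Surjective (Spec.map (CommRingCat.ofHom (algebraMap k K))) := by
    constructor
    intro x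
    have : Subsingleton (Spec (CommRingCat.of k)) :=
      inferInstanceAs (Subsingleton (PrimeSpectrum k))
    have : Nonempty (Spec (CommRingCat.of K)) := inferInstanceAs (Nonempty (PrimeSpectrum K))
    obtain ⟨y⟩ := this
    exact ⟨y, Subsingleton.elim _ _⟩
  exact (pullback.fst f (Spec.map (CommRingCat.ofHom (algebraMap k K)))).surjective

variable [LocallyOfFiniteType f]

/-- The dimensions of the irreducible components of `X ⊗ K` are those of `X`. -/
theorem image_dim_irreducibleComponents_bc_eq :
    (fun Z : Set ↥(FBase.bc f K) => topologicalKrullDim ↥Z) '' irreducibleComponents ↥(FBase.bc f K) =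
      (fun Z : Set ↥X => topologicalKrullDim ↥Z) '' irreducibleComponents ↥X := by
  apply Set.Subset.antisymm
  · rintro _ ⟨C, hC, rfl⟩
    obtain ⟨w, hw⟩ := QuasiSober.sober hC.1 (isClosed_of_mem_irreducibleComponents C hC)
    have hmaxw : ∀ w' : ↥(FBase.bc f K), w' ⤳ w → w' = w :=
      fun w' h => eq_of_specializes_generic' hC hw h
    have hG := dim_closure_eq_of_maximal_in_fibre f w (fun w' hsp _ => hmaxw w' hsp)
    refine ⟨closure {(FBase.bcπ f K) w}, ?_, ?_⟩
    · rw [Groth.Agent.Lib.Helper7.AffPts.closure_mem_irreducibleComponents_iff]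
      intro y hy
      obtain ⟨w', hw'sp, hw'π⟩ := generalizingMap_bcπ f hy
      rw [← hw'π, hmaxw w' hw'sp]
    · show topologicalKrullDim ↥(closure {(FBase.bcπ f K) w}) = topologicalKrullDim ↥C
      rw [← hG, hw.def]
  · rintro _ ⟨Z, hZ, rfl⟩
    obtain ⟨ξ, hξ⟩ := QuasiSober.sober hZ.1 (isClosed_of_mem_irreducibleComponents Z hZ)
    obtain ⟨w₀, hw₀⟩ := surjective_bcπ (K := K) f ξ
    obtain ⟨C, hC, hsub⟩ := exists_mem_irreducibleComponents_subset_of_isIrreducible
      (closure ({w₀} : Set ↥(FBase.bc f K))) isIrreducible_singleton.closure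
    obtain ⟨w, hw⟩ := QuasiSober.sober hC.1 (isClosed_of_mem_irreducibleComponents C hC)
    have hsp : w ⤳ w₀ := hw.specializes (hsub (subset_closure rfl))
    have hπw : (FBase.bcπ f K) w = ξ := by
      have h1 : (FBase.bcπ f K) w ⤳ ξ := by
        rw [← hw₀]
        exact hsp.map (FBase.bcπ f K).continuous
      exact eq_of_specializes_generic' hZ hξ h1
    have hmaxw : ∀ w' : ↥(FBase.bc f K), w' ⤳ w → w' = w :=
      fun w' h => eq_of_specializes_generic' hC hw h
    have hG := dim_closure_eq_of_maximal_in_fibre f w (fun w' hsp _ => hmaxw w' hsp)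
    refine ⟨C, hC, ?_⟩
    show topologicalKrullDim ↥C = topologicalKrullDim ↥Z
    rw [← hw.def, hG, hπw, hξ.def]

end Groth.Agent.Lib.Helper18.FieldBC
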