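import Mathlib.AlgebraicGeometry.Morphisms.Affine
import Mathlib.AlgebraicGeometry.Restrict

set_option autoImplicit false
set_option linter.style.haveILetI false
universe u
open AlgebraicGeometry CategoryTheory CategoryTheory.Limits

namespace Groth.Agent.Lib.Helper18.FieldBC

/-- Sections over an affine open and its preimage in a base change along `Spec K ⟶ Spec k`
form a pushout square of rings. -/
theorem isPushout_sections {k K : CommRingCat.{u}} (φ : k ⟶ K) {P X : Scheme.{u}}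
    {π : P ⟶ X} {s : P ⟶ Spec K} {f : X ⟶ Spec k}
    (sq : IsPullback π s f (Spec.map φ)) (U : X.Opens) (hU : IsAffineOpen U)
    (hV : IsAffineOpen (π ⁻¹ᵁ U)) :
    IsPushout φ
      ((Scheme.ΓSpecIso k).inv ≫ (U.ι ≫ f).appTop ≫ U.topIso.hom)
      ((Scheme.ΓSpecIso K).inv ≫ ((π ⁻¹ᵁ U).ι ≫ s).appTop ≫ (π ⁻¹ᵁ U).topIso.hom)
      (π.appLE U (π ⁻¹ᵁ U) le_rfl) := by
  have sqV : IsPullback (π.resLE U (π ⁻¹ᵁ U) le_rfl) ((π ⁻¹ᵁ U).ι ≫ s) (U.ι ≫ f) (Spec.map φ) := by
    rw [Scheme.Hom.resLE_eq_morphismRestrict]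
    exact (isPullback_morphismRestrict π U).paste_vert sq
  haveI : IsAffine U.toScheme := hU
  haveI : IsAffine (π ⁻¹ᵁ U).toScheme := hV
  have H₀ := isPushout_appTop_of_isPullback sqV
  refine H₀.flip.of_iso (Scheme.ΓSpecIso k) (Scheme.ΓSpecIso K) U.topIso (π ⁻¹ᵁ U).topIso
    ?_ ?_ ?_ ?_
  · exact Scheme.ΓSpecIso_naturality φ
  · simp
  · simp
  · rw [Scheme.Hom.appTop, Scheme.Hom.resLE_app_top]
    simp only [Category.assoc, Iso.inv_hom_id, Category.comp_id]

end Groth.Agent.Lib.Helper18.FieldBC
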