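import Groth.Agent.Lib.Helper18.FieldBC.Pushout
import Groth.Agent.Lib.Helper18.FieldBC.Sections
import Groth.Agent.Lib.Helper7.VarietyDim
import Groth.Prelude.Def_FDesc

set_option autoImplicit false
set_option linter.style.haveILetI false
universe u
open AlgebraicGeometry CategoryTheory CategoryTheory.Limits

namespace Groth.Agent.Lib.Helper18.FieldBC

/-- `primeIdealOf` is surjective. -/
theorem primeIdealOf_fromSpec {X : Scheme.{u}} {U : X.Opens} (hU : IsAffineOpen U)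
    (y : Spec Γ(X, U)) (hy : hU.fromSpec y ∈ U) : hU.primeIdealOf ⟨hU.fromSpec y, hy⟩ = y := by
  apply hU.fromSpec.isOpenEmbedding.injective
  exact hU.fromSpec_primeIdealOf ⟨hU.fromSpec y, hy⟩

variable {k K : Type u} [Field k] [Field K] [Algebra k K] {X : Scheme.{u}}
  (f : X ⟶ Spec (CommRingCat.of k)) [LocallyOfFiniteType f]

/-- A point of `X ⊗ K` that is maximal in its fibre over `X` has a closure of the same dimension as
the closure of its image. -/
theorem dim_closure_eq_of_maximal_in_fibre (w : ↥(FBase.bc f K))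
    (hmax : ∀ w' : ↥(FBase.bc f K), w' ⤳ w → (FBase.bcπ f K) w' = (FBase.bcπ f K) w → w' = w) :
    topologicalKrullDim ↥(closure ({w} : Set ↥(FBase.bc f K))) =
      topologicalKrullDim ↥(closure ({(FBase.bcπ f K) w} : Set X)) := by
  set σ : Spec (CommRingCat.of K) ⟶ Spec (CommRingCat.of k) :=
    Spec.map (CommRingCat.ofHom (algebraMap k K)) with hσ
  set π : FBase.bc f K ⟶ X := FBase.bcπ f K with hπ
  set s : FBase.bc f K ⟶ Spec (CommRingCat.of K) := FBase.bcStr f K with hs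
  have sq : IsPullback π s f σ := IsPullback.of_hasPullback f σ
  haveI : LocallyOfFiniteType s := MorphismProperty.of_isPullback sq inferInstance
  haveI : IsAffineHom π := MorphismProperty.of_isPullback sq.flip inferInstance
  obtain ⟨U, hU, hζU, -⟩ :=
    exists_isAffineOpen_mem_and_subset (X := X) (x := π w) (U := ⊤) (by simp)
  have hV : IsAffineOpen (π ⁻¹ᵁ U) := hU.preimage π
  have hwV : w ∈ π ⁻¹ᵁ U := hζU
  letI : (FBase.bc f K).Over (Spec (CommRingCat.of K)) := ⟨s⟩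
  letI : X.Over (Spec (CommRingCat.of k)) := ⟨f⟩
  haveI : LocallyOfFiniteType ((FBase.bc f K) ↘ Spec (CommRingCat.of K)) :=
    ‹LocallyOfFiniteType s›
  haveI : LocallyOfFiniteType (X ↘ Spec (CommRingCat.of k)) := ‹LocallyOfFiniteType f›
  rw [Groth.Agent.Lib.Helper7.VarDim.dim_closure_eq K (FBase.bc f K) w hV hwV,
    Groth.Agent.Lib.Helper7.VarDim.dim_closure_eq k X (π w) hU hζU]
  -- the pushout square of sections
  have H := isPushout_sections (CommRingCat.ofHom (algebraMap k K)) sq U hU hV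
  set αA : CommRingCat.of k ⟶ Γ(X, U) :=
    (Scheme.ΓSpecIso (CommRingCat.of k)).inv ≫ (U.ι ≫ f).appTop ≫ U.topIso.hom with hαA
  set αK : CommRingCat.of K ⟶ Γ(FBase.bc f K, π ⁻¹ᵁ U) :=
    (Scheme.ΓSpecIso (CommRingCat.of K)).inv ≫ ((π ⁻¹ᵁ U).ι ≫ s).appTop ≫
      (π ⁻¹ᵁ U).topIso.hom with hαK
  set ρ : Γ(X, U) ⟶ Γ(FBase.bc f K, π ⁻¹ᵁ U) := π.appLE U (π ⁻¹ᵁ U) le_rfl with hρ
  letI : Algebra k Γ(X, U) := αA.hom.toAlgebra
  letI : Algebra K Γ(FBase.bc f K, π ⁻¹ᵁ U) := αK.hom.toAlgebra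
  letI : Algebra Γ(X, U) Γ(FBase.bc f K, π ⁻¹ᵁ U) := ρ.hom.toAlgebra
  letI : Algebra k Γ(FBase.bc f K, π ⁻¹ᵁ U) := (αA ≫ ρ).hom.toAlgebra
  haveI : IsScalarTower k Γ(X, U) Γ(FBase.bc f K, π ⁻¹ᵁ U) :=
    IsScalarTower.of_algebraMap_eq fun _ => rfl
  haveI : IsScalarTower k K Γ(FBase.bc f K, π ⁻¹ᵁ U) :=
    IsScalarTower.of_algebraMap_eq fun c => by
      have := congr($(H.w) c)
      exact this.symm
  haveI : Algebra.IsPushout k K Γ(X, U) Γ(FBase.bc f K, π ⁻¹ᵁ U) :=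
    CommRingCat.isPushout_iff_isPushout.1 H
  haveI : Algebra.FiniteType k Γ(X, U) := by
    haveI : IsAffine U.toScheme := hU
    have h1 : RingHom.FiniteType (U.ι ≫ f).appTop.hom :=
      (HasRingHomProperty.iff_of_isAffine (P := @LocallyOfFiniteType)).1 inferInstance
    have h2 : RingHom.FiniteType αA.hom := by
      show RingHom.FiniteType (U.topIso.hom.hom.comp ((U.ι ≫ f).appTop.hom.comp
        (Scheme.ΓSpecIso (CommRingCat.of k)).inv.hom))
      refine RingHom.FiniteType.comp (RingHom.FiniteType.of_surjective _ ?_)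
        (h1.comp (RingHom.FiniteType.of_surjective _ ?_))
      · exact (ConcreteCategory.bijective_of_isIso U.topIso.hom).2
      · exact (ConcreteCategory.bijective_of_isIso (Scheme.ΓSpecIso (CommRingCat.of k)).inv).2
    exact h2
  set Q := hV.primeIdealOf ⟨w, hwV⟩ with hQ
  set q := hU.primeIdealOf ⟨π w, hζU⟩ with hq
  have hQq : Q.asIdeal.comap (algebraMap Γ(X, U) Γ(FBase.bc f K, π ⁻¹ᵁ U)) = q.asIdeal :=
    congrArg PrimeSpectrum.asIdeal
      (IsAffineOpen.comap_primeIdealOf_appLE U hU (π ⁻¹ᵁ U) hV le_rfl hwV)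
  refine ringKrullDim_quotient_eq_of_isPushout k K Q.asIdeal q.asIdeal hQq ?_
  refine ⟨⟨Q.isPrime, Ideal.map_le_iff_le_comap.2 hQq.ge⟩, fun Q' hQ' hQ'Q => ?_⟩
  obtain ⟨hQ'p, hQ'le⟩ := hQ'
  obtain ⟨⟨w', hw'V⟩, hw'⟩ :=
    Groth.Agent.Lib.Helper7.AffPts.primeIdealOf_surjective hV ⟨Q', hQ'p⟩
  have hsp : w' ⤳ w :=
    (Groth.Agent.Lib.Helper7.AffPts.primeIdealOf_le_iff hV ⟨w', hw'V⟩ ⟨w, hwV⟩).1
      (by rw [hw']; exact hQ'Q)
  have hπ' : π w' = π w := by
    have h1 := congrArg PrimeSpectrum.asIdeal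
      (IsAffineOpen.comap_primeIdealOf_appLE U hU (π ⁻¹ᵁ U) hV le_rfl hw'V)
    have h2 : hU.primeIdealOf ⟨π w', hw'V⟩ = q := by
      apply PrimeSpectrum.ext
      rw [← h1, hw']
      show Q'.comap ρ.hom = q.asIdeal
      apply le_antisymm
      · rw [← hQq]
        exact Ideal.comap_mono hQ'Q
      · exact Ideal.map_le_iff_le_comap.1 hQ'le
    exact congrArg Subtype.val (Groth.Agent.Lib.Helper7.AffPts.primeIdealOf_injective hU h2)
  have hww := hmax w' hsp hπ'
  subst hww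
  have : Q' = Q.asIdeal := congrArg PrimeSpectrum.asIdeal hw'.symm
  rw [this]

end Groth.Agent.Lib.Helper18.FieldBC
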