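
import Groth.Agent.Lib.Helper18.FieldBC.SchemeDim
import Mathlib.AlgebraicGeometry.Morphisms.UniversallyOpen

set_option autoImplicit false
set_option linter.style.haveILetI false
universe u
open AlgebraicGeometry CategoryTheory CategoryTheory.Limits

namespace Groth.Agent.Lib.Helper18.FieldBC

variable {k K : Type u} [Field k] [Field K] [Algebra k K] {X : Scheme.{u}}
  (f : X ⟶ Spec (CommRingCat.of k))

instance flat_bcπ : Flat (FBase.bcπ f K) := by
  haveI : Flat (Spec.map (CommRingCat.ofHom (algebraMap k K))) := by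
    rw [HasRingHomProperty.Spec_iff (P := @Flat)]
    simp only [CommRingCat.hom_ofHom]
    rw [RingHom.flat_algebraMap_iff]
    infer_instance
  exact MorphismProperty.of_isPullback (P := @Flat)
    (IsPullback.of_hasPullback f (Spec.map (CommRingCat.ofHom (algebraMap k K)))).flip inferInstance

theorem generalizingMap_bcπ : GeneralizingMap (FBase.bcπ f K) :=
  Flat.generalizingMap _

/-- A generization of the generic point of an irreducible component is that generic point. -/
theorem eq_of_specializes_generic' {α : Type*} [TopologicalSpace α] [T0Space α] {Z : Set α}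
    (hZ : Z ∈ irreducibleComponents α) {ξ ζ : α} (hξ : IsGenericPoint ξ Z) (hζ : ζ ⤳ ξ) :
    ζ = ξ := by
  have h2 : IsIrreducible (closure {ζ}) := isIrreducible_singleton.closure
  have h3 : Z ⊆ closure {ζ} := by
    rw [← hξ.def]
    exact closure_minimal (Set.singleton_subset_iff.mpr hζ.mem_closure) isClosed_closure
  have h4 : closure {ζ} ⊆ Z := hZ.2 h2 h3
  have h5 : ξ ⤳ ζ := by
    rw [specializes_iff_mem_closure, hξ.def]
    exact h4 (subset_closure rfl)
  exact (h5.antisymm hζ).eq.symm

variable [LocallyOfFiniteType f]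

theorem dim_component_preimage_eq (Z : Set ↥X) (hZc : IsClosed Z) (hZi : IsIrreducible Z)
    (W : Set ↥(⇑(FBase.bcπ f K) ⁻¹' Z)) (hW : W ∈ irreducibleComponents ↥(⇑(FBase.bcπ f K) ⁻¹' Z)) :
    topologicalKrullDim ↥W = topologicalKrullDim ↥Z := by
  have hScl : IsClosed (⇑(FBase.bcπ f K) ⁻¹' Z) := hZc.preimage (FBase.bcπ f K).continuous
  have hWcl : IsClosed W := isClosed_of_mem_irreducibleComponents W hW
  haveI : QuasiSober ↥(⇑(FBase.bcπ f K) ⁻¹' Z) := hScl.isClosedEmbedding_subtypeVal.quasiSober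
  obtain ⟨wS, hwS⟩ := QuasiSober.sober hW.1 hWcl
  obtain ⟨ζ, hζ⟩ := QuasiSober.sober hZi hZc
  set w : ↥(FBase.bc f K) := wS.1 with hw
  -- generizations of `w` inside the preimage are trivial
  have hT : ∀ w' : ↥(FBase.bc f K), w' ⤳ w → (FBase.bcπ f K) w' ∈ Z → w' = w := by
    intro w' hsp hw'Z
    have h1 : (⟨w', hw'Z⟩ : ↥(⇑(FBase.bcπ f K) ⁻¹' Z)) ⤳ wS := (subtype_specializes_iff _ _).2 hsp
    exact congrArg Subtype.val (eq_of_specializes_generic' hW hwS h1)
  have hπw : (FBase.bcπ f K) w = ζ := by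
    have h1 : ζ ⤳ (FBase.bcπ f K) w := hζ.specializes wS.2
    obtain ⟨w', hw'sp, hw'π⟩ := generalizingMap_bcπ f h1
    have h2 := hT w' hw'sp (by rw [hw'π]; exact hζ.mem)
    rw [← h2, hw'π]
  have hG := dim_closure_eq_of_maximal_in_fibre f w
    (fun w' hsp hπ' => hT w' hsp (by rw [hπ', hπw]; exact hζ.mem))
  rw [hπw, hζ.def] at hG
  rw [← hG]
  -- `W` is homeomorphic to the closure of `w`
  have himg : Subtype.val '' W = closure ({w} : Set ↥(FBase.bc f K)) := by
    rw [← hwS.def, ← hScl.isClosedEmbedding_subtypeVal.closure_image_eq, Set.image_singleton]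
  rw [← himg]
  exact IsHomeomorph.topologicalKrullDim_eq _
    (Topology.IsEmbedding.subtypeVal.homeomorphImage W).isHomeomorph

end Groth.Agent.Lib.Helper18.FieldBC
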