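import Groth.Agent.Lib.Helper18.FieldBC.ComponentDims

set_option autoImplicit false
set_option linter.style.haveILetI false
universe u
open AlgebraicGeometry CategoryTheory CategoryTheory.Limits

namespace Groth.Agent.Lib.Helper18.FieldBC

/-- The dimension of a quasi-sober space is the supremum of the dimensions of its irreducible
components. -/
theorem topologicalKrullDim_eq_sSup_components (T : Type*) [TopologicalSpace T] [QuasiSober T] :
    topologicalKrullDim T =
      sSup ((fun C : Set T => topologicalKrullDim ↥C) '' irreducibleComponents T) := by
  apply le_antisymm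
  · apply Groth.Agent.Lib.Helper24.LocalDim.dim_le_of_specializing_chains
    intro m c hc
    obtain ⟨C, hC, hsub⟩ := exists_mem_irreducibleComponents_subset_of_isIrreducible
      (closure ({c 0} : Set T)) isIrreducible_singleton.closure
    have hCcl : IsClosed C := isClosed_of_mem_irreducibleComponents C hC
    have h0 : ∀ i : Fin (m + 1), c 0 ⤳ c i := by
      intro i
      induction i using Fin.induction with
      | zero => exact specializes_rfl
      | succ j ih => exact ih.trans (hc j).1
    have hmem : ∀ i, c i ∈ C := fun i => hsub (h0 i).mem_closure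
    have h1 := Groth.Agent.Lib.Helper24.LocalDim.le_dim_of_specializing_chain
      (Z := ↥C) (fun i => (⟨c i, hmem i⟩ : ↥C)) (fun i =>
        ⟨(subtype_specializes_iff _ _).2 (hc i).1,
          fun h => (hc i).2 ((subtype_specializes_iff _ _).1 h)⟩)
    exact h1.trans (le_sSup ⟨C, hC, rfl⟩)
  · apply sSup_le
    rintro _ ⟨C, -, rfl⟩
    exact topologicalKrullDim_subspace_le _ _

variable {k K : Type u} [Field k] [Field K] [Algebra k K] {X : Scheme.{u}}
  (f : X ⟶ Spec (CommRingCat.of k)) [LocallyOfFiniteType f]

theorem topologicalKrullDim_bc_eq :
    topologicalKrullDim ↥(FBase.bc f K) = topologicalKrullDim ↥X := by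
  rw [topologicalKrullDim_eq_sSup_components, topologicalKrullDim_eq_sSup_components,
    image_dim_irreducibleComponents_bc_eq]

end Groth.Agent.Lib.Helper18.FieldBC
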