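import Mathlib.RingTheory.NoetherNormalization
import Mathlib.RingTheory.KrullDimension.Polynomial
import Mathlib.RingTheory.KrullDimension.Field
import Mathlib.RingTheory.TensorProduct.MvPolynomial
import Groth.Agent.Lib.Helper29.IntegralDim

set_option autoImplicit false
set_option linter.style.haveILetI false
universe u
open MvPolynomial TensorProduct

namespace Groth.Agent.Lib.Helper18.FieldBC

/-- Extending the base field does not increase the dimension of an algebra of finite type. -/
theorem ringKrullDim_tensor_le {k A K : Type u} [Field k] [CommRing A] [Algebra k A]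
    [Algebra.FiniteType k A] [Field K] [Algebra k K] :
    ringKrullDim (K ⊗[k] A) ≤ ringKrullDim A := by
  rcases subsingleton_or_nontrivial A with hA | hA
  · haveI : Subsingleton (K ⊗[k] A) := by
      refine ⟨fun x y => ?_⟩
      have h0 : ∀ z : K ⊗[k] A, z = 0 := by
        intro z
        induction z using TensorProduct.induction_on with
        | zero => rfl
        | tmul c a => rw [Subsingleton.elim a 0, TensorProduct.tmul_zero]
        | add x y hx hy => rw [hx, hy, add_zero]
      rw [h0 x, h0 y]
    rw [ringKrullDim_eq_bot_of_subsingleton]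
    exact bot_le
  obtain ⟨d, g, hinj, hfin⟩ := exists_finite_inj_algHom_of_fg k A
  have hd : ringKrullDim A = d := by
    letI : Algebra (MvPolynomial (Fin d) k) A := g.toRingHom.toAlgebra
    haveI : Module.Finite (MvPolynomial (Fin d) k) A := hfin
    haveI : Algebra.IsIntegral (MvPolynomial (Fin d) k) A := Algebra.IsIntegral.of_finite _ _
    have h1 := Groth.Agent.Lib.Helper29.ringKrullDim_eq_of_isIntegral_of_injective
      (A := MvPolynomial (Fin d) k) (A' := A) hinj
    rw [h1, MvPolynomial.ringKrullDim_of_isNoetherianRing, ringKrullDim_eq_zero_of_field,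
      zero_add, Nat.card_fin]
  let ψ : K ⊗[k] MvPolynomial (Fin d) k →ₐ[K] K ⊗[k] A :=
    Algebra.TensorProduct.map (AlgHom.id K K) g
  have hint : ψ.toRingHom.IsIntegral := by
    intro t
    induction t using TensorProduct.induction_on with
    | zero => exact ψ.toRingHom.isIntegralElem_zero
    | add x y hx hy => exact RingHom.IsIntegralElem.add _ hx hy
    | tmul c a =>
      have h1 : c ⊗ₜ[k] a = (c ⊗ₜ[k] (1 : A)) * ((1 : K) ⊗ₜ[k] a) := by
        rw [Algebra.TensorProduct.tmul_mul_tmul, mul_one, one_mul]
      rw [h1]
      refine RingHom.IsIntegralElem.mul _ ?_ ?_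
      · have : c ⊗ₜ[k] (1 : A) = ψ.toRingHom (c ⊗ₜ[k] 1) := by
          simp [ψ]
        rw [this]
        exact ψ.toRingHom.isIntegralElem_map
      · obtain ⟨p, hp, hpa⟩ := (hfin.to_isIntegral : g.toRingHom.IsIntegral) a
        refine ⟨p.map (Algebra.TensorProduct.includeRight (R := k) (A := K)
          (B := MvPolynomial (Fin d) k)).toRingHom, hp.map _, ?_⟩
        rw [Polynomial.eval₂_map]
        have hc : ψ.toRingHom.comp (Algebra.TensorProduct.includeRight (R := k) (A := K)
            (B := MvPolynomial (Fin d) k)).toRingHom =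
            (Algebra.TensorProduct.includeRight (R := k) (A := K) (B := A)).toRingHom.comp
              g.toRingHom := by
          refine RingHom.ext fun x => ?_
          simp [ψ]
        rw [hc]
        have := Polynomial.hom_eval₂ p g.toRingHom
          (Algebra.TensorProduct.includeRight (R := k) (A := K) (B := A)).toRingHom a
        rw [hpa, map_zero] at this
        exact this.symm
  letI : Algebra (K ⊗[k] MvPolynomial (Fin d) k) (K ⊗[k] A) := ψ.toRingHom.toAlgebra
  haveI : Algebra.IsIntegral (K ⊗[k] MvPolynomial (Fin d) k) (K ⊗[k] A) := ⟨hint⟩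
  have h2 := Groth.Agent.Lib.Helper29.ringKrullDim_le_of_isIntegral
    (A := K ⊗[k] MvPolynomial (Fin d) k) (A' := K ⊗[k] A)
  refine h2.trans ?_
  rw [ringKrullDim_eq_of_ringEquiv (MvPolynomial.algebraTensorAlgEquiv (σ := Fin d) k K).toRingEquiv,
    MvPolynomial.ringKrullDim_of_isNoetherianRing, ringKrullDim_eq_zero_of_field,
    zero_add, Nat.card_fin, hd]

end Groth.Agent.Lib.Helper18.FieldBC
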