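import Groth.Agent.Lib.Helper18.FieldBC.Pushout
import Groth.Agent.Lib.Helper7.LocQuotDim
import Groth.Agent.Lib.lead.AffLocalDim
import Groth.Prelude.Def_EGA4b

set_option autoImplicit false
set_option linter.style.haveILetI false
universe u
open TensorProduct

namespace Groth.Agent.Lib.Helper18.FieldBC

/-- The dimension of the fibre local ring `B_P / p B_P` is the height of the image of `P` in
`B / p B`. -/
theorem ringKrullDim_fibLocRing {A B : Type u} [CommRing A] [CommRing B] [Algebra A B]
    (p : Ideal A) (P : Ideal B) [P.IsPrime] [P.LiesOver p] :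
    ringKrullDim (EGA4.FibLocRing A B P) =
      ((P.map (Ideal.Quotient.mk (p.map (algebraMap A B)))).height : WithBot ℕ∞) := by
  set I : Ideal B := p.map (algebraMap A B) with hI
  have hIP : I ≤ P := by
    rw [hI, Ideal.map_le_iff_le_comap]
    exact (Ideal.LiesOver.over (p := p) (P := P)).le
  haveI hP' : (P.map (Ideal.Quotient.mk I)).IsPrime :=
    Ideal.map_isPrime_of_surjective Ideal.Quotient.mk_surjective (by rwa [Ideal.mk_ker])
  haveI : IsLocalization.AtPrime
      (Localization.AtPrime P ⧸ I.map (algebraMap B (Localization.AtPrime P)))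
      (P.map (Ideal.Quotient.mk I)) := by
    unfold IsLocalization.AtPrime
    rw [← Groth.Agent.Lib.Helper7.LocQuotDim.algebraMapSubmonoid_primeCompl B P I hIP]
    infer_instance
  have h1 := IsLocalization.AtPrime.ringKrullDim_eq_height (P.map (Ideal.Quotient.mk I))
    (Localization.AtPrime P ⧸ I.map (algebraMap B (Localization.AtPrime P)))
  rw [← h1]
  have h2 : (P.comap (algebraMap A B)).map (algebraMap A (Localization.AtPrime P)) =
      I.map (algebraMap B (Localization.AtPrime P)) := by
    rw [hI, Ideal.map_map, ← IsScalarTower.algebraMap_eq]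
    congr 1
    exact (Ideal.LiesOver.over (p := p) (P := P)).symm
  exact ringKrullDim_eq_of_ringEquiv (Ideal.quotEquivOfEq h2)

end Groth.Agent.Lib.Helper18.FieldBC
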