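import Groth.Agent.Lib.Helper18.FieldBC.FibLoc

set_option autoImplicit false
set_option linter.style.haveILetI false
universe u
open TensorProduct

namespace Groth.Agent.Lib.Helper18.FieldBC

section

variable (k S K : Type u) [Field k] [CommRing S] [Algebra k S]
    [Algebra.FiniteType k S] [Field K] [Algebra k K]

attribute [local instance] Algebra.TensorProduct.rightAlgebra

theorem fibre_dim_formulas (q : Ideal S) [q.IsPrime] (r : ℕ)
    (hr : Algebra.trdeg k q.ResidueField = r) (qK : Ideal (S ⊗[k] K)) [qK.IsPrime] [qK.LiesOver q]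
    (rK : ℕ) (hrK : Algebra.trdeg K qK.ResidueField = rK) :
    ringKrullDim (EGA4.FibLocRing S (S ⊗[k] K) qK) + ringKrullDim (Localization.AtPrime q) =
        ringKrullDim (Localization.AtPrime qK) ∧
      ringKrullDim (EGA4.FibLocRing S (S ⊗[k] K) qK) + (rK : WithBot ℕ∞) = (r : WithBot ℕ∞) := by
  haveI : Algebra.IsPushout k K S (S ⊗[k] K) := TensorProduct.isPushout'
  let e : K ⊗[k] S ≃ₐ[K] (S ⊗[k] K) := Algebra.IsPushout.equiv k K S (S ⊗[k] K)
  haveI : Algebra.FiniteType K (S ⊗[k] K) := Algebra.FiniteType.equiv inferInstance e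
  haveI : IsNoetherianRing (S ⊗[k] K) := Algebra.FiniteType.isNoetherianRing K (S ⊗[k] K)
  haveI : IsNoetherianRing S := Algebra.FiniteType.isNoetherianRing k S
  have hht := Ideal.height_eq_height_add_of_liesOver_of_hasGoingDown q qK
  have hfib := ringKrullDim_fibLocRing q qK
  have h1 : ringKrullDim (EGA4.FibLocRing S (S ⊗[k] K) qK) + ringKrullDim (Localization.AtPrime q) =
      ringKrullDim (Localization.AtPrime qK) := by
    rw [hfib, IsLocalization.AtPrime.ringKrullDim_eq_height q,
      IsLocalization.AtPrime.ringKrullDim_eq_height qK, hht, add_comm]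
    push_cast
    rfl
  refine ⟨h1, ?_⟩
  have L1 := Groth.Agent.Lib.lead.AffLocalDim.main (k := k) q r hr
  have L2 := Groth.Agent.Lib.lead.AffLocalDim.main (k := K) qK rK hrK
  have L3 := localDim_eq_of_isPushout k K qK q (Ideal.LiesOver.over (p := q) (P := qK)).symm
  rw [L1, L2, ← h1] at L3
  -- cancel `dim S_q`
  obtain ⟨n, hn⟩ : ∃ n : ℕ, ringKrullDim (Localization.AtPrime q) = n := by
    rw [IsLocalization.AtPrime.ringKrullDim_eq_height q]
    have hfin : q.height ≠ ⊤ := Ideal.height_ne_top (Ideal.IsPrime.ne_top inferInstance)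
    lift q.height to ℕ using hfin with n hn'
    exact ⟨n, rfl⟩
  rw [hn] at L3
  apply (ENat.WithBot.add_natCast_cancel (c := n)).1
  rw [add_right_comm, L3, add_comm]

end

end Groth.Agent.Lib.Helper18.FieldBC

namespace Groth.Agent.Lib.Helper18.FieldBC

/-- Over a prime `p` of `A` there is a prime of a faithfully flat `A`-algebra `B` at which the
fibre local ring has dimension zero. -/
theorem exists_fibLocRing_dim_zero {A B : Type u} [CommRing A] [CommRing B] [Algebra A B]
    [Module.FaithfullyFlat A B] (p : Ideal A) [p.IsPrime] :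
    ∃ (P : Ideal B) (_ : P.IsPrime), P.LiesOver p ∧ ringKrullDim (EGA4.FibLocRing A B P) = 0 := by
  obtain ⟨Q, hQ, hQp⟩ := Ideal.exists_isPrime_liesOver_of_faithfullyFlat (B := B) p
  set I : Ideal B := p.map (algebraMap A B) with hI
  have hIQ : I ≤ Q := by
    rw [hI, Ideal.map_le_iff_le_comap]
    exact (Ideal.LiesOver.over (p := p) (P := Q)).le
  obtain ⟨P, hPmin, hPQ⟩ := Ideal.exists_minimalPrimes_le hIQ
  haveI : P.IsPrime := hPmin.1.1
  have hover : P.LiesOver p := by
    refine ⟨le_antisymm ?_ ?_⟩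
    · rw [Ideal.under_def, ← Ideal.map_le_iff_le_comap]
      exact hPmin.1.2
    · rw [Ideal.LiesOver.over (p := p) (P := Q)]
      exact Ideal.comap_mono hPQ
  refine ⟨P, inferInstance, hover, ?_⟩
  rw [ringKrullDim_fibLocRing p P]
  have hmem : P ∈ I.minimalPrimes := hPmin
  rw [Ideal.minimalPrimes_eq_comap] at hmem
  obtain ⟨P', hP'min, hP'⟩ := hmem
  have hmap : P.map (Ideal.Quotient.mk I) = P' := by
    rw [← hP', Ideal.map_comap_of_surjective _ Ideal.Quotient.mk_surjective]
  rw [hmap]
  haveI : P'.IsPrime := hP'min.1.1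
  rw [Ideal.height_eq_zero_iff.2 hP'min]
  rfl

end Groth.Agent.Lib.Helper18.FieldBC
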