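import Groth.Agent.Lib.Helper18.FieldBC.LengthAlg
import Groth.Agent.Lib.Helper18.FieldBC.Sections
import Groth.Agent.Lib.Helper7.AffinePoints
import Groth.Prelude.Def_FDesc

set_option autoImplicit false
set_option linter.style.haveILetI false
universe u
open AlgebraicGeometry CategoryTheory CategoryTheory.Limits TensorProduct

namespace Groth.Agent.Lib.Helper18.FieldBC

variable {k K : Type u} [Field k] [Field K] [Algebra k K]

/-- A "separable" extension `K/k` (`Spec K ⟶ Spec k` geometrically reduced): `κ ⊗ K` is reduced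
for every field `κ` over `k`. -/
theorem isReduced_tensor_of_geometricallyReduced
    [GeometricallyReduced (Spec.map (CommRingCat.ofHom (algebraMap k K)))]
    (κ : Type u) [Field κ] [Algebra k κ] : IsReduced (κ ⊗[k] K) := by
  have h : geometrically (fun Z => IsReduced Z) (Spec.map (CommRingCat.ofHom (algebraMap k K))) :=
    (GeometricallyReduced.eq_geometrically ▸ ‹GeometricallyReduced _› :)
  rw [geometrically_iff_of_commRing_of_isClosedUnderIsomorphisms] at h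
  have h1 := h κ
  have h2 : IsReduced (Spec (CommRingCat.of (K ⊗[k] κ))) :=
    isReduced_of_isOpenImmersion (pullbackSpecIso k K κ).inv
  have h3 : _root_.IsReduced (K ⊗[k] κ) := (affine_isReduced_iff (CommRingCat.of (K ⊗[k] κ))).1 h2
  exact isReduced_of_injective (Algebra.TensorProduct.comm k κ K).toRingEquiv.toRingHom
    (Algebra.TensorProduct.comm k κ K).injective

variable {Y : Scheme.{u}} (g : Y ⟶ Spec (CommRingCat.of k))

/-- Length of the local ring at a maximal point is unchanged under a geometrically reduced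
("separable") extension of the base field. -/
theorem length_stalk_bc_eq [IsLocallyNoetherian Y]
    [GeometricallyReduced (Spec.map (CommRingCat.ofHom (algebraMap k K)))]
    (w : ↥(FBase.bc g K)) (hw : ∀ z : ↥(FBase.bc g K), z ⤳ w → z = w) :
    Module.length ((FBase.bc g K).presheaf.stalk w) ((FBase.bc g K).presheaf.stalk w) =
      Module.length (Y.presheaf.stalk (FBase.bcπ g K w)) (Y.presheaf.stalk (FBase.bcπ g K w)) := by
  set σ : Spec (CommRingCat.of K) ⟶ Spec (CommRingCat.of k) :=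
    Spec.map (CommRingCat.ofHom (algebraMap k K)) with hσ
  set π : FBase.bc g K ⟶ Y := FBase.bcπ g K with hπ
  set s : FBase.bc g K ⟶ Spec (CommRingCat.of K) := FBase.bcStr g K with hs
  have sq : IsPullback π s g σ := IsPullback.of_hasPullback g σ
  haveI : IsAffineHom π := MorphismProperty.of_isPullback sq.flip inferInstance
  obtain ⟨U, hU, hζU, -⟩ :=
    exists_isAffineOpen_mem_and_subset (X := Y) (x := π w) (U := ⊤) (by simp)
  have hV : IsAffineOpen (π ⁻¹ᵁ U) := hU.preimage π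
  have hwV : w ∈ π ⁻¹ᵁ U := hζU
  -- the pushout square of sections
  have H := isPushout_sections (CommRingCat.ofHom (algebraMap k K)) sq U hU hV
  set αA : CommRingCat.of k ⟶ Γ(Y, U) :=
    (Scheme.ΓSpecIso (CommRingCat.of k)).inv ≫ (U.ι ≫ g).appTop ≫ U.topIso.hom with hαA
  set αK : CommRingCat.of K ⟶ Γ(FBase.bc g K, π ⁻¹ᵁ U) :=
    (Scheme.ΓSpecIso (CommRingCat.of K)).inv ≫ ((π ⁻¹ᵁ U).ι ≫ s).appTop ≫
      (π ⁻¹ᵁ U).topIso.hom with hαK
  set ρ : Γ(Y, U) ⟶ Γ(FBase.bc g K, π ⁻¹ᵁ U) := π.appLE U (π ⁻¹ᵁ U) le_rfl with hρ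
  letI : Algebra k Γ(Y, U) := αA.hom.toAlgebra
  letI : Algebra K Γ(FBase.bc g K, π ⁻¹ᵁ U) := αK.hom.toAlgebra
  letI : Algebra Γ(Y, U) Γ(FBase.bc g K, π ⁻¹ᵁ U) := ρ.hom.toAlgebra
  letI : Algebra k Γ(FBase.bc g K, π ⁻¹ᵁ U) := (αA ≫ ρ).hom.toAlgebra
  haveI : IsScalarTower k Γ(Y, U) Γ(FBase.bc g K, π ⁻¹ᵁ U) :=
    IsScalarTower.of_algebraMap_eq fun _ => rfl
  haveI : IsScalarTower k K Γ(FBase.bc g K, π ⁻¹ᵁ U) :=
    IsScalarTower.of_algebraMap_eq fun c => by
      have := congr($(H.w) c)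
      exact this.symm
  haveI hpo : Algebra.IsPushout k K Γ(Y, U) Γ(FBase.bc g K, π ⁻¹ᵁ U) :=
    CommRingCat.isPushout_iff_isPushout.1 H
  haveI hpo' : Algebra.IsPushout k Γ(Y, U) K Γ(FBase.bc g K, π ⁻¹ᵁ U) := hpo.symm
  let e : Γ(Y, U) ⊗[k] K ≃ₐ[Γ(Y, U)] Γ(FBase.bc g K, π ⁻¹ᵁ U) :=
    Algebra.IsPushout.equiv k Γ(Y, U) K Γ(FBase.bc g K, π ⁻¹ᵁ U)
  haveI : IsNoetherianRing Γ(Y, U) := IsLocallyNoetherian.component_noetherian ⟨U, hU⟩
  haveI : Module.Flat Γ(Y, U) Γ(FBase.bc g K, π ⁻¹ᵁ U) :=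
    Module.Flat.of_linearEquiv e.toLinearEquiv.symm
  set Q := hV.primeIdealOf ⟨w, hwV⟩ with hQ
  set q := hU.primeIdealOf ⟨π w, hζU⟩ with hq
  have hQq : Q.asIdeal.comap (algebraMap Γ(Y, U) Γ(FBase.bc g K, π ⁻¹ᵁ U)) = q.asIdeal :=
    congrArg PrimeSpectrum.asIdeal
      (IsAffineOpen.comap_primeIdealOf_appLE U hU (π ⁻¹ᵁ U) hV le_rfl hwV)
  haveI : Q.asIdeal.LiesOver q.asIdeal := ⟨hQq.symm⟩
  -- `Q` is a minimal prime
  have hQmin : Q.asIdeal ∈ minimalPrimes Γ(FBase.bc g K, π ⁻¹ᵁ U) := by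
    refine ⟨⟨Q.isPrime, bot_le⟩, fun Q' hQ' hQ'Q => ?_⟩
    obtain ⟨⟨w', hw'V⟩, hw'⟩ :=
      Groth.Agent.Lib.Helper7.AffPts.primeIdealOf_surjective hV ⟨Q', hQ'.1⟩
    have hsp : w' ⤳ w :=
      (Groth.Agent.Lib.Helper7.AffPts.primeIdealOf_le_iff hV ⟨w', hw'V⟩ ⟨w, hwV⟩).1
        (by rw [hw']; exact hQ'Q)
    have hww := hw w' hsp
    subst hww
    have : Q' = Q.asIdeal := congrArg PrimeSpectrum.asIdeal hw'.symm
    rw [this]
  -- `T/qT` is reduced
  have hred : IsReduced (Γ(FBase.bc g K, π ⁻¹ᵁ U) ⧸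
      q.asIdeal.map (algebraMap Γ(Y, U) Γ(FBase.bc g K, π ⁻¹ᵁ U))) := by
    have h0 := isReduced_tensor_quotient k K Γ(Y, U) q.asIdeal
      (isReduced_tensor_of_geometricallyReduced q.asIdeal.ResidueField)
    have hmap : q.asIdeal.map (algebraMap Γ(Y, U) Γ(FBase.bc g K, π ⁻¹ᵁ U)) =
        (q.asIdeal.map (algebraMap Γ(Y, U) (Γ(Y, U) ⊗[k] K))).map
          (e.toRingEquiv : Γ(Y, U) ⊗[k] K →+* Γ(FBase.bc g K, π ⁻¹ᵁ U)) := by
      rw [Ideal.map_map]
      congr 1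
      ext a
      exact (e.commutes a).symm
    let e' := Ideal.quotientEquiv _ _ e.toRingEquiv hmap
    exact isReduced_of_injective e'.symm.toRingHom e'.symm.injective
  have hmain := length_atPrime_eq_of_flat Q.asIdeal hQmin q.asIdeal hred
  -- identify the stalks with the localizations
  letI := (FBase.bc g K).presheaf.algebra_section_stalk ⟨w, hwV⟩
  letI := Y.presheaf.algebra_section_stalk ⟨π w, hζU⟩
  haveI := hV.isLocalization_stalk ⟨w, hwV⟩
  haveI := hU.isLocalization_stalk ⟨π w, hζU⟩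
  have e1 : Localization.AtPrime Q.asIdeal ≃+* (FBase.bc g K).presheaf.stalk w :=
    (IsLocalization.algEquiv Q.asIdeal.primeCompl (Localization.AtPrime Q.asIdeal)
      ((FBase.bc g K).presheaf.stalk w)).toRingEquiv
  have e2 : Localization.AtPrime q.asIdeal ≃+* Y.presheaf.stalk (π w) :=
    (IsLocalization.algEquiv q.asIdeal.primeCompl (Localization.AtPrime q.asIdeal)
      (Y.presheaf.stalk (π w))).toRingEquiv
  rw [← length_self_eq_of_ringEquiv e1, ← length_self_eq_of_ringEquiv e2]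
  exact hmain

end Groth.Agent.Lib.Helper18.FieldBC
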