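import Mathlib
import Groth.Agent.Lib.Helper18.FieldBC.LengthAlg

set_option autoImplicit false
set_option linter.style.haveILetI false
universe u
open TensorProduct IsLocalRing

namespace Groth.Agent.Lib.Helper18.FieldBC

section pushout

variable {R S R' S' : Type u} [CommRing R] [CommRing S] [CommRing R'] [CommRing S']
  [Algebra R S] [Algebra R R'] [Algebra R S'] [Algebra S S'] [Algebra R' S']
  [IsScalarTower R S S'] [IsScalarTower R R' S']

/-- In a pushout square of rings with `R → R'` surjective, `S → S'` is surjective with kernel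
generated by the kernel of `R → R'`. -/
theorem surjective_and_ker_of_isPushout [Algebra.IsPushout R S R' S']
    (h : Function.Surjective (algebraMap R R')) :
    Function.Surjective (algebraMap S S') ∧
      RingHom.ker (algebraMap S S') = (RingHom.ker (algebraMap R R')).map (algebraMap R S) := by
  have h' : Function.Surjective (Algebra.ofId R R') := h
  set I : Ideal R := RingHom.ker (Algebra.ofId R R') with hI
  have hI' : I = RingHom.ker (algebraMap R R') := rfl
  let e₁ : (R ⧸ I) ≃ₐ[R] R' := Ideal.quotientKerAlgEquivOfSurjective h'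
  let e₂ : S ⊗[R] (R ⧸ I) ≃ₐ[S] S ⊗[R] R' := Algebra.TensorProduct.congr AlgEquiv.refl e₁
  let e₃ : S ⊗[R] R' ≃ₐ[S] S' := Algebra.IsPushout.equiv R S R' S'
  let E : (S ⧸ I.map (algebraMap R S)) ≃ₐ[S] S' :=
    (Algebra.TensorProduct.quotIdealMapEquivTensorQuot S I).trans (e₂.trans e₃)
  have hE : ∀ t : S, algebraMap S S' t = E (Ideal.Quotient.mk _ t) := fun t =>
    (E.commutes t).symm
  rw [← hI']
  refine ⟨fun y => ?_, ?_⟩
  · obtain ⟨t, ht⟩ := Ideal.Quotient.mk_surjective (E.symm y)
    exact ⟨t, by rw [hE, ht, AlgEquiv.apply_symm_apply]⟩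
  · ext t
    rw [RingHom.mem_ker, hE, EmbeddingLike.map_eq_zero_iff, Ideal.Quotient.eq_zero_iff_mem]

end pushout

section flat

variable {A T T' : Type u} [CommRing A] [CommRing T] [CommRing T'] [Algebra A T] [Algebra T T']
  [Module.Flat A T]

attribute [local instance] Localization.AtPrime.algebraOfLiesOver

/-- The extension of a minimal prime `q` of `A` to `A_q` is the extension of the nilradical. -/
theorem map_eq_map_nilradical_of_mem_minimalPrimes (q : Ideal A) [q.IsPrime]
    (hq : q ∈ minimalPrimes A) :
    q.map (algebraMap A (Localization.AtPrime q)) =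
      (nilradical A).map (algebraMap A (Localization.AtPrime q)) := by
  apply le_antisymm
  · rw [Ideal.map_le_iff_le_comap]
    intro x hx
    rw [Ideal.mem_comap]
    have hrad := IsLocalization.AtPrime.radical_map_of_mem_minimalPrimes
      (A := Localization.AtPrime q) q ⊥ hq
    rw [Ideal.map_bot] at hrad
    have hx' : algebraMap A (Localization.AtPrime q) x ∈
        (⊥ : Ideal (Localization.AtPrime q)).radical := by
      rw [hrad]
      exact Ideal.mem_map_of_mem _ hx
    obtain ⟨n, hn⟩ := hx'
    have hxn : algebraMap A (Localization.AtPrime q) (x ^ n) = 0 := by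
      rw [map_pow]; exact hn
    obtain ⟨s, hs⟩ := (IsLocalization.map_eq_zero_iff q.primeCompl (Localization.AtPrime q) _).1 hxn
    have hsx : (s : A) * x ∈ nilradical A := by
      refine ⟨n + 1, ?_⟩
      calc ((s : A) * x) ^ (n + 1) = (s : A) ^ n * x * ((s : A) * x ^ n) := by ring
        _ = 0 := by rw [hs, mul_zero]
    have h1 : algebraMap A (Localization.AtPrime q) ((s : A) * x) ∈
        (nilradical A).map (algebraMap A (Localization.AtPrime q)) := Ideal.mem_map_of_mem _ hsx
    rw [map_mul] at h1
    have hu : IsUnit (algebraMap A (Localization.AtPrime q) (s : A)) :=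
      IsLocalization.map_units _ s
    exact (Ideal.unit_mul_mem_iff_mem _ hu).1 h1
  · exact Ideal.map_mono (nilradical_le_prime q)

/-- Length of `T_Q` for a minimal prime `Q` of a flat `A`-algebra `T` (`A` Noetherian), in terms of
the length of `A_q` and the length of the local ring of the quotient `T' = T / nil(A) T`. -/
theorem length_atPrime_eq_mul_of_flat [IsNoetherianRing A]
    (hsurj : Function.Surjective (algebraMap T T'))
    (hker : RingHom.ker (algebraMap T T') = (nilradical A).map (algebraMap A T))
    (Q' : Ideal T') [Q'.IsPrime] (Q : Ideal T) [Q.IsPrime] [Q'.LiesOver Q]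
    (hQ : Q ∈ minimalPrimes T) (q : Ideal A) [q.IsPrime] [Q.LiesOver q] :
    Module.length (Localization.AtPrime Q) (Localization.AtPrime Q) =
      Module.length (Localization.AtPrime q) (Localization.AtPrime q) *
        Module.length (Localization.AtPrime Q') (Localization.AtPrime Q') := by
  have hqQ : q = Q.under A := Ideal.LiesOver.over
  have hQQ' : Q = Q'.under T := Ideal.LiesOver.over
  have hqmin : q ∈ minimalPrimes A := hqQ ▸ under_mem_minimalPrimes Q hQ
  haveI : IsLocalHom (algebraMap (Localization.AtPrime q) (Localization.AtPrime Q)) := by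
    rw [RingHom.algebraMap_toAlgebra]
    exact Localization.isLocalHom_localRingHom q Q (algebraMap A T) Ideal.LiesOver.over
  set Aq := Localization.AtPrime q
  set B := Localization.AtPrime Q
  set C := Localization.AtPrime Q'
  -- Step 1: the flat local length formula
  have h1 := IsLocalRing.length_baseChange Aq B Aq
  have h0 : Module.length B (B ⊗[Aq] Aq) = Module.length B B :=
    (TensorProduct.AlgebraTensorModule.rid Aq B B).length_eq
  rw [h0] at h1
  rw [h1]
  congr 1
  -- Step 2: the map `B → C`
  have hT : Submonoid.map (algebraMap T T') Q.primeCompl = Q'.primeCompl := by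
    ext y
    constructor
    · rintro ⟨t, ht, rfl⟩
      intro hy
      apply ht
      rw [hQQ']
      exact hy
    · intro hy
      obtain ⟨t, rfl⟩ := hsurj y
      refine ⟨t, ?_, rfl⟩
      intro ht
      apply hy
      rw [hQQ'] at ht
      exact ht
  haveI : IsLocalization (Submonoid.map (algebraMap T T') Q.primeCompl) C := by
    rw [hT]; infer_instance
  set Ψ : B →+* C := IsLocalization.map C (algebraMap T T') (hT.symm ▸ Q.primeCompl.le_comap_map)
    with hΨ
  have hΨsurj : Function.Surjective Ψ := by
    intro c
    obtain ⟨y, s', rfl⟩ := IsLocalization.exists_mk'_eq Q'.primeCompl c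
    obtain ⟨t, rfl⟩ := hsurj y
    obtain ⟨s, hs, hss'⟩ : (s' : T') ∈ Submonoid.map (algebraMap T T') Q.primeCompl := by
      rw [hT]; exact s'.2
    refine ⟨IsLocalization.mk' B t ⟨s, hs⟩, ?_⟩
    rw [hΨ, IsLocalization.map_mk']
    congr 1
    exact Subtype.ext hss'
  have hΨker : RingHom.ker Ψ = (RingHom.ker (algebraMap T T')).map (algebraMap T B) :=
    IsLocalization.ker_map (S := B) C (algebraMap T T') hT
  -- the kernel is the extension of the maximal ideal
  have hJ : (maximalIdeal Aq).map (algebraMap Aq B) = RingHom.ker Ψ := by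
    rw [hΨker, hker, ← Localization.AtPrime.map_eq_maximalIdeal,
      map_eq_map_nilradical_of_mem_minimalPrimes q hqmin, Ideal.map_map, Ideal.map_map,
      ← IsScalarTower.algebraMap_eq, ← IsScalarTower.algebraMap_eq]
  letI : Algebra B C := Ψ.toAlgebra
  have h2 : Module.length B C = Module.length C C :=
    Module.length_eq_of_surjective (S := B) (R := C) (M := C) hΨsurj
  rw [← h2]
  have hker' : LinearMap.ker (Algebra.linearMap B C) =
      (maximalIdeal Aq).map (algebraMap Aq B) := by
    rw [hJ]
    ext b
    simp only [LinearMap.mem_ker, Algebra.linearMap_apply, RingHom.mem_ker]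
    rfl
  have e : (B ⧸ (maximalIdeal Aq).map (algebraMap Aq B)) ≃ₗ[B] C :=
    (Submodule.quotEquivOfEq _ _ hker'.symm).trans
      ((Algebra.linearMap B C).quotKerEquivOfSurjective hΨsurj)
  exact e.length_eq

end flat

end Groth.Agent.Lib.Helper18.FieldBC
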