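import Groth.Agent.Lib.Helper18.FieldBC.LengthMul
import Groth.Agent.Lib.Helper18.FieldBC.LengthBC

set_option autoImplicit false
set_option linter.style.haveILetI false
universe u
open AlgebraicGeometry CategoryTheory CategoryTheory.Limits TensorProduct

namespace Groth.Agent.Lib.Helper18.FieldBC

/-- Restricting a base-change square to an open of the base scheme. -/
theorem isPullback_resLE {k K : CommRingCat.{u}} (φ : k ⟶ K) {P X : Scheme.{u}}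
    {π : P ⟶ X} {s : P ⟶ Spec K} {f : X ⟶ Spec k}
    (sq : IsPullback π s f (Spec.map φ)) (U : X.Opens) :
    IsPullback (π.resLE U (π ⁻¹ᵁ U) le_rfl) ((π ⁻¹ᵁ U).ι ≫ s) (U.ι ≫ f) (Spec.map φ) := by
  rw [Scheme.Hom.resLE_eq_morphismRestrict]
  exact (isPullback_morphismRestrict π U).paste_vert sq

variable {k K : Type u} [Field k] [Field K] [Algebra k K]

variable {Y : Scheme.{u}} (g : Y ⟶ Spec (CommRingCat.of k))

/-- Abstract form of `length_stalk_bc_eq_mul`. -/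
theorem length_stalk_bc_eq_mul_aux [IsLocallyNoetherian Y] {Y' X2 Z : Scheme.{u}}
    (ι : Y' ⟶ Y) [IsAffineHom ι]
    (hιs : ∀ U : Y.affineOpens, Function.Surjective (ι.app U.1).hom)
    (hιk : ∀ U : Y.affineOpens, RingHom.ker (ι.app U.1).hom = nilradical Γ(Y, U.1))
    (π : X2 ⟶ Y) (s : X2 ⟶ Spec (CommRingCat.of K))
    (sq : IsPullback π s g (Spec.map (CommRingCat.ofHom (algebraMap k K))))
    (πZ : Z ⟶ Y') (sZ : Z ⟶ Spec (CommRingCat.of K))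
    (sqZ : IsPullback πZ sZ (ι ≫ g) (Spec.map (CommRingCat.ofHom (algebraMap k K))))
    (j : Z ⟶ X2) (hjπ : j ≫ π = πZ ≫ ι) (hjs : j ≫ s = sZ)
    (z : Z) (hx : ∀ w : X2, w ⤳ j z → w = j z) :
    Module.length (X2.presheaf.stalk (j z)) (X2.presheaf.stalk (j z)) =
      Module.length (Y.presheaf.stalk (π (j z))) (Y.presheaf.stalk (π (j z))) *
        Module.length (Z.presheaf.stalk z) (Z.presheaf.stalk z) := by
  haveI : IsAffineHom π := MorphismProperty.of_isPullback sq.flip inferInstance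
  haveI : IsAffineHom πZ := MorphismProperty.of_isPullback sqZ.flip inferInstance
  obtain ⟨U, hU, hxU, -⟩ :=
    exists_isAffineOpen_mem_and_subset (X := Y) (x := π (j z)) (U := ⊤) (by simp)
  have hV : IsAffineOpen (π ⁻¹ᵁ U) := hU.preimage π
  have hU' : IsAffineOpen (ι ⁻¹ᵁ U) := hU.preimage ι
  have hW : IsAffineOpen (πZ ⁻¹ᵁ (ι ⁻¹ᵁ U)) := hU'.preimage πZ
  have hpt : ∀ w, π (j w) = ι (πZ w) := fun w => by
    rw [← Scheme.Hom.comp_apply, ← Scheme.Hom.comp_apply, hjπ]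
  have hWV : πZ ⁻¹ᵁ (ι ⁻¹ᵁ U) ≤ j ⁻¹ᵁ (π ⁻¹ᵁ U) := by
    intro w hw
    show π (j w) ∈ U
    rw [hpt]
    exact hw
  have hxV : j z ∈ π ⁻¹ᵁ U := hxU
  have hzW : z ∈ πZ ⁻¹ᵁ (ι ⁻¹ᵁ U) := by
    show ι (πZ z) ∈ U
    rw [← hpt]
    exact hxU
  -- the pullback squares
  have sqV := isPullback_resLE (CommRingCat.ofHom (algebraMap k K)) sq U
  have sqW := isPullback_resLE (CommRingCat.ofHom (algebraMap k K)) sqZ (ι ⁻¹ᵁ U)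
  have sqL : IsPullback (j.resLE (π ⁻¹ᵁ U) (πZ ⁻¹ᵁ (ι ⁻¹ᵁ U)) hWV)
      (πZ.resLE (ι ⁻¹ᵁ U) (πZ ⁻¹ᵁ (ι ⁻¹ᵁ U)) le_rfl) (π.resLE U (π ⁻¹ᵁ U) le_rfl)
      (ι.resLE U (ι ⁻¹ᵁ U) le_rfl) := by
    refine IsPullback.of_right ?_ ?_ sqV.flip
    · have h1 : j.resLE (π ⁻¹ᵁ U) (πZ ⁻¹ᵁ (ι ⁻¹ᵁ U)) hWV ≫ (π ⁻¹ᵁ U).ι ≫ s =
          (πZ ⁻¹ᵁ (ι ⁻¹ᵁ U)).ι ≫ sZ := by
        rw [Scheme.Hom.resLE_comp_ι_assoc, hjs]
      have h2 : ι.resLE U (ι ⁻¹ᵁ U) le_rfl ≫ U.ι ≫ g = (ι ⁻¹ᵁ U).ι ≫ ι ≫ g := by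
        rw [Scheme.Hom.resLE_comp_ι_assoc]
      rw [h1, h2]
      exact sqW.flip
    · rw [← cancel_mono U.ι]
      simp only [Category.assoc, Scheme.Hom.resLE_comp_ι, Scheme.Hom.resLE_comp_ι_assoc, hjπ]
  haveI : IsAffine U.toScheme := hU
  haveI : IsAffine (π ⁻¹ᵁ U).toScheme := hV
  haveI : IsAffine (ι ⁻¹ᵁ U).toScheme := hU'
  haveI : IsAffine (πZ ⁻¹ᵁ (ι ⁻¹ᵁ U)).toScheme := hW
  have H₀ := isPushout_appTop_of_isPullback sqL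
  have H : IsPushout (π.appLE U (π ⁻¹ᵁ U) le_rfl) (ι.appLE U (ι ⁻¹ᵁ U) le_rfl)
      (j.appLE (π ⁻¹ᵁ U) (πZ ⁻¹ᵁ (ι ⁻¹ᵁ U)) hWV)
      (πZ.appLE (ι ⁻¹ᵁ U) (πZ ⁻¹ᵁ (ι ⁻¹ᵁ U)) le_rfl) := by
    refine H₀.of_iso U.topIso (π ⁻¹ᵁ U).topIso (ι ⁻¹ᵁ U).topIso (πZ ⁻¹ᵁ (ι ⁻¹ᵁ U)).topIso
      ?_ ?_ ?_ ?_
    all_goals
      rw [Scheme.Hom.appTop, Scheme.Hom.resLE_app_top]
      simp only [Category.assoc, Iso.inv_hom_id, Category.comp_id]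
  -- the pushout square of sections for the base change
  have HK := isPushout_sections (CommRingCat.ofHom (algebraMap k K)) sq U hU hV
  set αA : CommRingCat.of k ⟶ Γ(Y, U) :=
    (Scheme.ΓSpecIso (CommRingCat.of k)).inv ≫ (U.ι ≫ g).appTop ≫ U.topIso.hom with hαA
  set αK : CommRingCat.of K ⟶ Γ(X2, π ⁻¹ᵁ U) :=
    (Scheme.ΓSpecIso (CommRingCat.of K)).inv ≫ ((π ⁻¹ᵁ U).ι ≫ s).appTop ≫
      (π ⁻¹ᵁ U).topIso.hom with hαK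
  set ρ : Γ(Y, U) ⟶ Γ(X2, π ⁻¹ᵁ U) := π.appLE U (π ⁻¹ᵁ U) le_rfl with hρ
  letI : Algebra k Γ(Y, U) := αA.hom.toAlgebra
  letI : Algebra K Γ(X2, π ⁻¹ᵁ U) := αK.hom.toAlgebra
  letI : Algebra Γ(Y, U) Γ(X2, π ⁻¹ᵁ U) := ρ.hom.toAlgebra
  letI : Algebra k Γ(X2, π ⁻¹ᵁ U) := (αA ≫ ρ).hom.toAlgebra
  haveI : IsScalarTower k Γ(Y, U) Γ(X2, π ⁻¹ᵁ U) :=
    IsScalarTower.of_algebraMap_eq fun _ => rfl
  haveI : IsScalarTower k K Γ(X2, π ⁻¹ᵁ U) :=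
    IsScalarTower.of_algebraMap_eq fun c => by
      have := congr($(HK.w) c)
      exact this.symm
  haveI hpo : Algebra.IsPushout k K Γ(Y, U) Γ(X2, π ⁻¹ᵁ U) :=
    CommRingCat.isPushout_iff_isPushout.1 HK
  haveI hpo' : Algebra.IsPushout k Γ(Y, U) K Γ(X2, π ⁻¹ᵁ U) := hpo.symm
  let e : Γ(Y, U) ⊗[k] K ≃ₐ[Γ(Y, U)] Γ(X2, π ⁻¹ᵁ U) :=
    Algebra.IsPushout.equiv k Γ(Y, U) K Γ(X2, π ⁻¹ᵁ U)
  haveI : IsNoetherianRing Γ(Y, U) := IsLocallyNoetherian.component_noetherian ⟨U, hU⟩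
  haveI : Module.Flat Γ(Y, U) Γ(X2, π ⁻¹ᵁ U) :=
    Module.Flat.of_linearEquiv e.toLinearEquiv.symm
  -- the algebra structures for the reduced part
  letI : Algebra Γ(Y, U) Γ(Y', ι ⁻¹ᵁ U) :=
    (ι.appLE U (ι ⁻¹ᵁ U) le_rfl).hom.toAlgebra
  letI : Algebra Γ(X2, π ⁻¹ᵁ U) Γ(Z, πZ ⁻¹ᵁ (ι ⁻¹ᵁ U)) :=
    (j.appLE (π ⁻¹ᵁ U) (πZ ⁻¹ᵁ (ι ⁻¹ᵁ U)) hWV).hom.toAlgebra
  letI : Algebra Γ(Y', ι ⁻¹ᵁ U)
      Γ(Z, πZ ⁻¹ᵁ (ι ⁻¹ᵁ U)) :=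
    (πZ.appLE (ι ⁻¹ᵁ U) (πZ ⁻¹ᵁ (ι ⁻¹ᵁ U)) le_rfl).hom.toAlgebra
  letI : Algebra Γ(Y, U) Γ(Z, πZ ⁻¹ᵁ (ι ⁻¹ᵁ U)) :=
    (ρ ≫ j.appLE (π ⁻¹ᵁ U) (πZ ⁻¹ᵁ (ι ⁻¹ᵁ U)) hWV).hom.toAlgebra
  haveI : IsScalarTower Γ(Y, U) Γ(X2, π ⁻¹ᵁ U)
      Γ(Z, πZ ⁻¹ᵁ (ι ⁻¹ᵁ U)) :=
    IsScalarTower.of_algebraMap_eq fun _ => rfl
  haveI : IsScalarTower Γ(Y, U) Γ(Y', ι ⁻¹ᵁ U)
      Γ(Z, πZ ⁻¹ᵁ (ι ⁻¹ᵁ U)) :=
    IsScalarTower.of_algebraMap_eq fun c => by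
      have := congr($(H.w) c)
      exact this
  haveI hpoL : Algebra.IsPushout Γ(Y, U) Γ(X2, π ⁻¹ᵁ U)
      Γ(Y', ι ⁻¹ᵁ U) Γ(Z, πZ ⁻¹ᵁ (ι ⁻¹ᵁ U)) :=
    CommRingCat.isPushout_iff_isPushout.1 H
  have happ : ι.appLE U (ι ⁻¹ᵁ U) le_rfl = ι.app U := (Scheme.Hom.app_eq_appLE ι).symm
  have hsurjA : Function.Surjective (algebraMap Γ(Y, U) Γ(Y', ι ⁻¹ᵁ U)) := by
    show Function.Surjective (ι.appLE U (ι ⁻¹ᵁ U) le_rfl).hom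
    rw [happ]
    exact hιs ⟨U, hU⟩
  have hkerA : RingHom.ker (algebraMap Γ(Y, U) Γ(Y', ι ⁻¹ᵁ U)) =
      nilradical Γ(Y, U) := by
    show RingHom.ker (ι.appLE U (ι ⁻¹ᵁ U) le_rfl).hom = _
    rw [happ]
    exact hιk ⟨U, hU⟩
  obtain ⟨hsurjT, hkerT⟩ := surjective_and_ker_of_isPushout
    (R := Γ(Y, U)) (S := Γ(X2, π ⁻¹ᵁ U)) (R' := Γ(Y', ι ⁻¹ᵁ U))
    (S' := Γ(Z, πZ ⁻¹ᵁ (ι ⁻¹ᵁ U))) hsurjA
  rw [hkerA] at hkerT
  -- the primes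
  set Q := hV.primeIdealOf ⟨j z, hxV⟩ with hQ
  set q := hU.primeIdealOf ⟨π (j z), hxU⟩ with hq
  set Q' := hW.primeIdealOf ⟨z, hzW⟩ with hQ'
  have hQq : Q.asIdeal.comap (algebraMap Γ(Y, U) Γ(X2, π ⁻¹ᵁ U)) = q.asIdeal :=
    congrArg PrimeSpectrum.asIdeal
      (IsAffineOpen.comap_primeIdealOf_appLE U hU (π ⁻¹ᵁ U) hV le_rfl hxV)
  haveI : Q.asIdeal.LiesOver q.asIdeal := ⟨hQq.symm⟩
  have hQ'Q : Q'.asIdeal.comap (algebraMap Γ(X2, π ⁻¹ᵁ U)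
      Γ(Z, πZ ⁻¹ᵁ (ι ⁻¹ᵁ U))) = Q.asIdeal :=
    congrArg PrimeSpectrum.asIdeal
      (IsAffineOpen.comap_primeIdealOf_appLE (π ⁻¹ᵁ U) hV (πZ ⁻¹ᵁ (ι ⁻¹ᵁ U)) hW hWV hzW)
  haveI : Q'.asIdeal.LiesOver Q.asIdeal := ⟨hQ'Q.symm⟩
  -- `Q` is a minimal prime
  have hQmin : Q.asIdeal ∈ minimalPrimes Γ(X2, π ⁻¹ᵁ U) := by
    refine ⟨⟨Q.isPrime, bot_le⟩, fun P hP hPQ => ?_⟩
    obtain ⟨⟨w', hw'V⟩, hw'⟩ :=
      Groth.Agent.Lib.Helper7.AffPts.primeIdealOf_surjective hV ⟨P, hP.1⟩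
    have hsp : w' ⤳ j z :=
      (Groth.Agent.Lib.Helper7.AffPts.primeIdealOf_le_iff hV ⟨w', hw'V⟩ ⟨j z, hxV⟩).1
        (by rw [hw']; exact hPQ)
    have hww := hx w' hsp
    subst hww
    have : P = Q.asIdeal := congrArg PrimeSpectrum.asIdeal hw'.symm
    rw [this]
  have hmain := length_atPrime_eq_mul_of_flat hsurjT hkerT Q'.asIdeal Q.asIdeal hQmin q.asIdeal
  -- identify the stalks with the localizations
  letI := (X2).presheaf.algebra_section_stalk ⟨j z, hxV⟩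
  letI := Y.presheaf.algebra_section_stalk ⟨π (j z), hxU⟩
  letI := (Z).presheaf.algebra_section_stalk ⟨z, hzW⟩
  haveI := hV.isLocalization_stalk ⟨j z, hxV⟩
  haveI := hU.isLocalization_stalk ⟨π (j z), hxU⟩
  haveI := hW.isLocalization_stalk ⟨z, hzW⟩
  have e1 : Localization.AtPrime Q.asIdeal ≃+* (X2).presheaf.stalk (j z) :=
    (IsLocalization.algEquiv Q.asIdeal.primeCompl (Localization.AtPrime Q.asIdeal)
      ((X2).presheaf.stalk (j z))).toRingEquiv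
  have e2 : Localization.AtPrime q.asIdeal ≃+* Y.presheaf.stalk (π (j z)) :=
    (IsLocalization.algEquiv q.asIdeal.primeCompl (Localization.AtPrime q.asIdeal)
      (Y.presheaf.stalk (π (j z)))).toRingEquiv
  have e3 : Localization.AtPrime Q'.asIdeal ≃+* (Z).presheaf.stalk z :=
    (IsLocalization.algEquiv Q'.asIdeal.primeCompl (Localization.AtPrime Q'.asIdeal)
      ((Z).presheaf.stalk z)).toRingEquiv
  rw [← length_self_eq_of_ringEquiv e1, ← length_self_eq_of_ringEquiv e2,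
    ← length_self_eq_of_ringEquiv e3]
  exact hmain

/-- Length of the local ring at a maximal point of `Y ⊗ K`: the product of the length of the
local ring of `Y` at the image point and the length of the local ring of `Y_red ⊗ K`. -/
theorem length_stalk_bc_eq_mul [IsLocallyNoetherian Y]
    (x : ↥(FBase.bc g K)) (hx : ∀ w : ↥(FBase.bc g K), w ⤳ x → w = x)
    (z : ↥(FBase.bc (Y.nilradical.subschemeι ≫ g) K))
    (hz : pullback.map (Y.nilradical.subschemeι ≫ g)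
        (Spec.map (CommRingCat.ofHom (algebraMap k K))) g
        (Spec.map (CommRingCat.ofHom (algebraMap k K))) Y.nilradical.subschemeι (𝟙 _) (𝟙 _)
        (Category.comp_id _) ((Category.comp_id _).trans (Category.id_comp _).symm) z = x) :
    Module.length ((FBase.bc g K).presheaf.stalk x) ((FBase.bc g K).presheaf.stalk x) =
      Module.length (Y.presheaf.stalk (FBase.bcπ g K x)) (Y.presheaf.stalk (FBase.bcπ g K x)) *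
        Module.length ((FBase.bc (Y.nilradical.subschemeι ≫ g) K).presheaf.stalk z)
          ((FBase.bc (Y.nilradical.subschemeι ≫ g) K).presheaf.stalk z) := by
  subst hz
  refine length_stalk_bc_eq_mul_aux (K := K) g Y.nilradical.subschemeι
    (fun U => Y.nilradical.subschemeι_app_surjective U)
    (fun U => ?_)
    (FBase.bcπ g K) (FBase.bcStr g K) (IsPullback.of_hasPullback g _)
    (FBase.bcπ (Y.nilradical.subschemeι ≫ g) K) (FBase.bcStr (Y.nilradical.subschemeι ≫ g) K)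
    (IsPullback.of_hasPullback _ _) _ ?_ ?_ z hx
  · rw [Y.nilradical.ker_subschemeι_app U]
    rfl
  · exact pullback.lift_fst _ _ _
  · exact (pullback.lift_snd _ _ _).trans (Category.comp_id _)

end Groth.Agent.Lib.Helper18.FieldBC
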