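import Groth.Agent.Lib.Helper18.FieldBC.DimBC

set_option autoImplicit false
set_option linter.style.haveILetI false
universe u
open AlgebraicGeometry CategoryTheory CategoryTheory.Limits

namespace Groth.Agent.Lib.Helper18.FieldBC

section arith

theorem withBot_le_of_lt_succ {x : WithBot ℕ∞} {m : ℕ}
    (h : x < ((m + 1 : ℕ) : WithBot ℕ∞)) : x ≤ (m : WithBot ℕ∞) := by
  induction x using WithBot.recBotCoe with
  | bot => exact bot_le
  | coe a =>
    induction a using ENat.recTopCoe with
    | top =>
      exfalso
      have h1 : ((⊤ : ℕ∞) : WithBot ℕ∞) < (((m + 1 : ℕ) : ℕ∞) : WithBot ℕ∞) := h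
      rw [WithBot.coe_lt_coe] at h1
      exact absurd h1 (by simp)
    | coe a =>
      have h1 : (((a : ℕ) : ℕ∞) : WithBot ℕ∞) < (((m + 1 : ℕ) : ℕ∞) : WithBot ℕ∞) := h
      rw [WithBot.coe_lt_coe, Nat.cast_lt] at h1
      show (((a : ℕ) : ℕ∞) : WithBot ℕ∞) ≤ (((m : ℕ) : ℕ∞) : WithBot ℕ∞)
      rw [WithBot.coe_le_coe, Nat.cast_le]
      omega

theorem exists_le_of_le_iSup {ι : Sort*} (f : ι → WithBot ℕ∞) (m : ℕ)
    (h : (m : WithBot ℕ∞) ≤ ⨆ i, f i) : ∃ i, (m : WithBot ℕ∞) ≤ f i := by
  by_contra hne
  push Not at hne
  cases m with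
  | zero =>
    have : ⨆ i, f i ≤ ⊥ := by
      apply iSup_le
      intro i
      have hi := hne i
      induction hx : f i using WithBot.recBotCoe with
      | bot => exact le_rfl
      | coe a =>
        exfalso
        rw [hx] at hi
        have h1 : ((a : ℕ∞) : WithBot ℕ∞) < ((0 : ℕ∞) : WithBot ℕ∞) := by exact_mod_cast hi
        rw [WithBot.coe_lt_coe] at h1
        exact absurd h1 (by simp)
    have h2 := h.trans this
    simp at h2
  | succ m =>
    have : ⨆ i, f i ≤ (m : WithBot ℕ∞) := iSup_le fun i => withBot_le_of_lt_succ (hne i)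
    have h2 := h.trans this
    have h3 : (((m + 1 : ℕ) : ℕ∞) : WithBot ℕ∞) ≤ (((m : ℕ) : ℕ∞) : WithBot ℕ∞) := h2
    rw [WithBot.coe_le_coe, Nat.cast_le] at h3
    omega

theorem add_le_of_forall_nat (a b c : WithBot ℕ∞)
    (h : ∀ m n : ℕ, (m : WithBot ℕ∞) ≤ a → (n : WithBot ℕ∞) ≤ b →
      ((m + n : ℕ) : WithBot ℕ∞) ≤ c) : a + b ≤ c := by
  induction a using WithBot.recBotCoe with
  | bot => simp
  | coe a =>
    induction b using WithBot.recBotCoe with
    | bot => simp
    | coe b =>
      induction c using WithBot.recBotCoe with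
      | bot =>
        exfalso
        have := h 0 0 (by exact_mod_cast (WithBot.coe_le_coe.2 zero_le))
          (by exact_mod_cast (WithBot.coe_le_coe.2 zero_le))
        simp at this
      | coe c =>
        rw [← WithBot.coe_add, WithBot.coe_le_coe]
        have h' : ∀ m n : ℕ, (m : ℕ∞) ≤ a → (n : ℕ∞) ≤ b → ((m + n : ℕ) : ℕ∞) ≤ c := by
          intro m n hm hn
          have := h m n (by exact_mod_cast (WithBot.coe_le_coe.2 hm))
            (by exact_mod_cast (WithBot.coe_le_coe.2 hn))
          exact_mod_cast this
        by_contra hlt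
        push Not at hlt
        have hc : c ≠ ⊤ := ne_top_of_lt hlt
        lift c to ℕ using hc
        induction a using ENat.recTopCoe with
        | top =>
          have := h' (c + 1) 0 le_top zero_le
          rw [Nat.cast_le] at this
          omega
        | coe a =>
          induction b using ENat.recTopCoe with
          | top =>
            have := h' 0 (c + 1) zero_le le_top
            rw [Nat.cast_le] at this
            omega
          | coe b =>
            have := h' a b le_rfl le_rfl
            rw [Nat.cast_le] at this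
            have h2 : ((c : ℕ) : ℕ∞) < ((a + b : ℕ) : ℕ∞) := by exact_mod_cast hlt
            rw [Nat.cast_lt] at h2
            omega

end arith

section top

variable {T : Type*} [TopologicalSpace T]

theorem topologicalKrullDim_eq_iSup_closure (T : Type*) [TopologicalSpace T] [QuasiSober T] :
    topologicalKrullDim T = ⨆ t : T, topologicalKrullDim ↥(closure ({t} : Set T)) := by
  apply le_antisymm
  · apply Groth.Agent.Lib.Helper24.LocalDim.dim_le_of_specializing_chains
    intro m c hc
    have h0 : ∀ i : Fin (m + 1), c 0 ⤳ c i := by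
      intro i
      induction i using Fin.induction with
      | zero => exact specializes_rfl
      | succ j ih => exact ih.trans (hc j).1
    have hmem : ∀ i, c i ∈ closure ({c 0} : Set T) := fun i => (h0 i).mem_closure
    have h1 := Groth.Agent.Lib.Helper24.LocalDim.le_dim_of_specializing_chain
      (Z := ↥(closure ({c 0} : Set T))) (fun i => (⟨c i, hmem i⟩ : ↥(closure ({c 0} : Set T))))
      (fun i => ⟨(subtype_specializes_iff _ _).2 (hc i).1,
          fun h => (hc i).2 ((subtype_specializes_iff _ _).1 h)⟩)
    exact h1.trans (le_iSup (fun t : T => topologicalKrullDim ↥(closure ({t} : Set T))) (c 0))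
  · exact iSup_le fun t => topologicalKrullDim_subspace_le _ _

theorem dim_closure_homeomorph {A B : Type*} [TopologicalSpace A] [TopologicalSpace B]
    (h : A ≃ₜ B) (a : A) :
    topologicalKrullDim ↥(closure ({a} : Set A)) =
      topologicalKrullDim ↥(closure ({h a} : Set B)) := by
  have himg : h '' closure ({a} : Set A) = closure ({h a} : Set B) := by
    rw [h.image_closure, Set.image_singleton]
  rw [← himg]
  exact IsHomeomorph.topologicalKrullDim_eq _ (h.image (closure ({a} : Set A))).isHomeomorph

end top

end Groth.Agent.Lib.Helper18.FieldBC
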