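import Groth.Agent.Lib.Helper18.FieldBC.ProdFibre
import Groth.Agent.Lib.Helper18.FieldBC.ProdArith

set_option autoImplicit false
set_option linter.style.haveILetI false
universe u
open AlgebraicGeometry CategoryTheory CategoryTheory.Limits

namespace Groth.Agent.Lib.Helper18.FieldBC

variable {k : Type u} [Field k] {X Y : Scheme.{u}}
  (f : X ⟶ Spec (CommRingCat.of k)) (g : Y ⟶ Spec (CommRingCat.of k))

/-- The fibre of the first projection over `x` is homeomorphic to `Y ⊗ κ(x)`, compatibly with the
maps to `Y`. -/
theorem exists_fibre_homeo (x : X) :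
    letI := resAlg f x
    ∃ e : ↥((pullback.fst f g).fiber x) ≃ₜ ↥(FBase.bc g (X.residueField x)),
      ∀ w, (FBase.bcπ g (X.residueField x)) (e w) =
        (pullback.snd f g) ((pullback.fst f g).fiberι x w) := by
  letI := resAlg f x
  refine ⟨Scheme.homeoOfIso (isPullback_fibre_fst f g x).isoPullback, fun w => ?_⟩
  have h := (isPullback_fibre_fst f g x).isoPullback_hom_fst
  exact congrArg (fun φ : (pullback.fst f g).fiber x ⟶ Y => φ w) h

variable [LocallyOfFiniteType f] [LocallyOfFiniteType g]

theorem dim_closure_prod' (x : X) (w : ↥((pullback.fst f g).fiber x)) :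
    topologicalKrullDim ↥(closure ({(pullback.fst f g).fiberι x w} : Set ↥(pullback f g))) =
      topologicalKrullDim ↥(closure ({x} : Set X)) +
        topologicalKrullDim ↥(closure ({w} : Set ↥((pullback.fst f g).fiber x))) := by
  have key : ∀ (x : X) (z : ↥(pullback f g)) (hz : (pullback.fst f g) z = x),
      topologicalKrullDim ↥(closure ({z} : Set ↥(pullback f g))) =
        topologicalKrullDim ↥(closure ({x} : Set X)) +
          topologicalKrullDim ↥(closure ({((pullback.fst f g).fiberHomeo x).symm ⟨z, hz⟩} :
            Set ↥((pullback.fst f g).fiber x))) := by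
    intro x z hz
    subst hz
    exact dim_closure_prod f g z
  have hz : (pullback.fst f g) ((pullback.fst f g).fiberι x w) = x :=
    ((pullback.fst f g).fiberHomeo x w).2
  have h := key x _ hz
  have h2 : (⟨(pullback.fst f g).fiberι x w, hz⟩ : ↥((pullback.fst f g) ⁻¹' {x})) =
      (pullback.fst f g).fiberHomeo x w := rfl
  rwa [h2, Homeomorph.symm_apply_apply] at h

omit [LocallyOfFiniteType f] in
theorem dim_fibre_fst (x : X) :
    topologicalKrullDim ↥((pullback.fst f g).fiber x) = topologicalKrullDim ↥Y := by
  letI := resAlg f x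
  obtain ⟨e, -⟩ := exists_fibre_homeo f g x
  rw [IsHomeomorph.topologicalKrullDim_eq _ e.isHomeomorph, topologicalKrullDim_bc_eq]

/-- `dim (X ×_k Y) = dim X + dim Y`. -/
theorem topologicalKrullDim_pullback_eq_add :
    topologicalKrullDim ↥(pullback f g) = topologicalKrullDim ↥X + topologicalKrullDim ↥Y := by
  apply le_antisymm
  · rw [topologicalKrullDim_eq_iSup_closure ↥(pullback f g)]
    apply iSup_le
    intro z
    rw [dim_closure_prod f g z]
    refine add_le_add (topologicalKrullDim_subspace_le _ _) ?_
    refine (topologicalKrullDim_subspace_le _ _).trans ?_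
    rw [dim_fibre_fst]
  · apply add_le_of_forall_nat
    intro m n hm hn
    rw [topologicalKrullDim_eq_iSup_closure ↥X] at hm
    obtain ⟨x, hx⟩ := exists_le_of_le_iSup _ m hm
    rw [← dim_fibre_fst f g x, topologicalKrullDim_eq_iSup_closure] at hn
    obtain ⟨w, hw⟩ := exists_le_of_le_iSup _ n hn
    have h1 := dim_closure_prod' f g x w
    calc ((m + n : ℕ) : WithBot ℕ∞) = (m : WithBot ℕ∞) + (n : WithBot ℕ∞) := by
          push_cast; rfl
      _ ≤ _ := add_le_add hx hw
      _ = _ := h1.symm
      _ ≤ _ := topologicalKrullDim_subspace_le _ _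

/-- Every irreducible component of `X ×_k Y` (with `X`, `Y` integral) has dimension
`dim X + dim Y`. -/
theorem topologicalKrullDim_component_pullback_eq_add [IsIntegral X] [IsIntegral Y]
    (Z : Set ↥(pullback f g)) (hZ : Z ∈ irreducibleComponents ↥(pullback f g)) :
    topologicalKrullDim ↥Z = topologicalKrullDim ↥X + topologicalKrullDim ↥Y := by
  have hZcl : IsClosed Z := isClosed_of_mem_irreducibleComponents Z hZ
  obtain ⟨z, hz⟩ := QuasiSober.sober hZ.1 hZcl
  have hmaxz : ∀ z' : ↥(pullback f g), z' ⤳ z → z' = z := fun z' h =>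
    eq_of_specializes_generic' hZ hz h
  -- the projections of `z` are the generic points
  have h1 : (pullback.fst f g) z = genericPoint ↥X := by
    have hsp : genericPoint ↥X ⤳ (pullback.fst f g) z := genericPoint_specializes _
    obtain ⟨z', hz', hpz'⟩ := (Flat.generalizingMap (pullback.fst f g)) hsp
    rw [← hpz', hmaxz z' hz']
  have h2 : (pullback.snd f g) z = genericPoint ↥Y := by
    have hsp : genericPoint ↥Y ⤳ (pullback.snd f g) z := genericPoint_specializes _
    obtain ⟨z', hz', hpz'⟩ := (Flat.generalizingMap (pullback.snd f g)) hsp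
    rw [← hpz', hmaxz z' hz']
  have hdimcl : ∀ (T : Scheme.{u}) [IsIntegral T],
      topologicalKrullDim ↥(closure ({genericPoint ↥T} : Set ↥T)) = topologicalKrullDim ↥T := by
    intro T _
    rw [(genericPoint_spec ↥T).def]
    exact IsHomeomorph.topologicalKrullDim_eq _ (Homeomorph.Set.univ ↥T).isHomeomorph
  rw [← hz.def, dim_closure_prod f g z]
  have hX : topologicalKrullDim ↥(closure ({(pullback.fst f g) z} : Set ↥X)) =
      topologicalKrullDim ↥X := by rw [h1]; exact hdimcl X
  rw [hX]
  congr 1
  -- the fibre part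
  set x := (pullback.fst f g) z with hx
  letI := resAlg f x
  obtain ⟨e, he⟩ := exists_fibre_homeo f g x
  set w := (pullback.fst f g).asFiber z with hw
  have hιw : (pullback.fst f g).fiberι x w = z := (pullback.fst f g).fiberι_asFiber z
  rw [dim_closure_homeomorph e w]
  have hmax : ∀ t : ↥(FBase.bc g (X.residueField x)), t ⤳ e w →
      (FBase.bcπ g (X.residueField x)) t = (FBase.bcπ g (X.residueField x)) (e w) → t = e w := by
    intro t ht _
    have h3 : e.symm t ⤳ w := by
      have := ht.map e.symm.continuous
      rwa [e.symm_apply_apply] at this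
    have h4 : (pullback.fst f g).fiberι x (e.symm t) ⤳ z := by
      have := h3.map ((pullback.fst f g).fiberι x).continuous
      rwa [hιw] at this
    have h5 := hmaxz _ h4
    have h6 : e.symm t = w :=
      ((pullback.fst f g).fiberι x).isEmbedding.injective (h5.trans hιw.symm)
    rw [← h6, e.apply_symm_apply]
  rw [dim_closure_eq_of_maximal_in_fibre g (e w) hmax, he w, hιw, h2, hdimcl Y]

end Groth.Agent.Lib.Helper18.FieldBC
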