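import Groth.Agent.Lib.Helper18.FibreTd
import Groth.Agent.Lib.Helper18.FieldBC.DimBC

set_option autoImplicit false
set_option linter.style.haveILetI false
universe u
open AlgebraicGeometry CategoryTheory CategoryTheory.Limits

namespace Groth.Agent.Lib.Helper18.FieldBC

variable {k : Type u} [Field k] {X Y : Scheme.{u}}
  (f : X ⟶ Spec (CommRingCat.of k)) (g : Y ⟶ Spec (CommRingCat.of k))

/-- The `k`-algebra structure on a residue field. -/
@[reducible] noncomputable def resAlg (x : X) : Algebra k (X.residueField x) :=
  (GeomIrrGen.resMap f x).toAlgebra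

/-- The fibre of the first projection of `X ×_k Y` over `x` is the base change of `Y` to `κ(x)`. -/
theorem isPullback_fibre_fst (x : X) :
    letI := resAlg f x
    IsPullback ((pullback.fst f g).fiberι x ≫ pullback.snd f g)
      ((pullback.fst f g).fiberToSpecResidueField x) g
      (Spec.map (CommRingCat.ofHom (algebraMap k (X.residueField x)))) := by
  letI := resAlg f x
  have h1 : IsPullback ((pullback.fst f g).fiberι x) ((pullback.fst f g).fiberToSpecResidueField x)
      (pullback.fst f g) (X.fromSpecResidueField x) := IsPullback.of_hasPullback _ _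
  have h2 : IsPullback (pullback.snd f g) (pullback.fst f g) g f :=
    (IsPullback.of_hasPullback f g).flip
  have h3 := h1.paste_horiz h2
  have h4 : X.fromSpecResidueField x ≫ f =
      Spec.map (CommRingCat.ofHom (algebraMap k (X.residueField x))) :=
    GeomIrrGen.fromSpecResidueField_comp f x
  rw [h4] at h3
  exact h3

variable [LocallyOfFiniteType f] [LocallyOfFiniteType g]

/-- The dimension of the closure of a point of `X ×_k Y` is the dimension of the closure of its
image in `X` plus the dimension of its closure in the fibre. -/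
theorem dim_closure_prod (z : ↥(pullback f g)) :
    topologicalKrullDim ↥(closure ({z} : Set ↥(pullback f g))) =
      topologicalKrullDim ↥(closure ({(pullback.fst f g) z} : Set X)) +
        topologicalKrullDim ↥(closure ({(pullback.fst f g).asFiber z} :
          Set ((pullback.fst f g).fiber ((pullback.fst f g) z)))) := by
  set pr₁ := pullback.fst f g with hpr₁
  letI : X.Over (Spec (CommRingCat.of k)) := ⟨f⟩
  letI : (pullback f g).Over (Spec (CommRingCat.of k)) := ⟨pr₁ ≫ f⟩
  letI := FibreTd.fibreOver pr₁ (pr₁ z)
  haveI : LocallyOfFiniteType (X ↘ Spec (CommRingCat.of k)) := ‹LocallyOfFiniteType f›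
  haveI : LocallyOfFiniteType ((pullback f g) ↘ Spec (CommRingCat.of k)) :=
    inferInstanceAs (LocallyOfFiniteType (pr₁ ≫ f))
  haveI : LocallyOfFiniteType ((pr₁.fiber (pr₁ z)) ↘ Spec (CommRingCat.of (X.residueField (pr₁ z)))) :=
    inferInstanceAs (LocallyOfFiniteType (pr₁.fiberToSpecResidueField (pr₁ z)))
  obtain ⟨nz, hz1, hz2⟩ :=
    Groth.Agent.Lib.Helper7.VarDim.exists_nat_dim_closure_eq k (pullback f g) z
  obtain ⟨nx, hx1, hx2⟩ := Groth.Agent.Lib.Helper7.VarDim.exists_nat_dim_closure_eq k X (pr₁ z)
  obtain ⟨nf, hf1, hf2⟩ := Groth.Agent.Lib.Helper7.VarDim.exists_nat_dim_closure_eq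
    (X.residueField (pr₁ z)) (pr₁.fiber (pr₁ z)) (pr₁.asFiber z)
  rw [hz2, hx2, hf2]
  have htd := FibreTd.td_asFiber pr₁ z
  unfold GenFinite.td at htd
  rw [hf1] at htd
  letI := Curv2.resAlgebra k X (pr₁ z)
  letI := Curv2.resAlgebra k (pullback f g) z
  letI := (pr₁.residueFieldMap z).hom.toAlgebra
  haveI : IsScalarTower k (X.residueField (pr₁ z)) ((pullback f g).residueField z) :=
    IsScalarTower.of_algebraMap_eq fun c =>
      (GenFinite.residueFieldMap_resMap k pr₁ rfl z c).symm
  have htower := _root_.trdeg_add_eq (R := k) (S := X.residueField (pr₁ z))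
    (A := (pullback f g).residueField z)
  rw [hx1, hz1, ← htd] at htower
  have : nx + nf = nz := by exact_mod_cast htower
  rw [← this]
  push_cast
  rfl

end Groth.Agent.Lib.Helper18.FieldBC
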