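import Groth.Agent.S2142
import Groth.Agent.Lib.Helper24.LocalDim.Scheme
import Mathlib.RingTheory.Ideal.KrullsHeightTheorem
import Groth.Agent.Lib.lead.AffLocalDim

set_option autoImplicit false
set_option linter.style.haveILetI false
universe u
open TensorProduct

namespace Groth.Agent.Lib.Helper18.FieldBC

/-- Local dimension is invariant under extension of the base field (pushout form). -/
theorem localDim_eq_of_isPushout (k K : Type u) {A T : Type u} [Field k] [Field K] [Algebra k K]
    [CommRing A] [Algebra k A]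
    [Algebra.FiniteType k A] [CommRing T] [Algebra k T] [Algebra K T] [Algebra A T]
    [IsScalarTower k K T] [IsScalarTower k A T] [Algebra.IsPushout k K A T]
    (Q : Ideal T) [Q.IsPrime] (q : Ideal A) [q.IsPrime]
    (hq : Q.comap (algebraMap A T) = q) :
    FlatMor.localDim (PrimeSpectrum T) ⟨Q, inferInstance⟩ =
      FlatMor.localDim (PrimeSpectrum A) ⟨q, inferInstance⟩ := by
  let e : K ⊗[k] A ≃ₐ[K] T := Algebra.IsPushout.equiv k K A T
  let h : PrimeSpectrum T ≃ₜ PrimeSpectrum (K ⊗[k] A) :=
    PrimeSpectrum.homeomorphOfRingEquiv e.toRingEquiv.symm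
  rw [Groth.Agent.Lib.Helper24.LocalDim.localDim_eq_of_isOpenEmbedding h h.isOpenEmbedding]
  have hh : h ⟨Q, inferInstance⟩ = ⟨Q.comap (e : K ⊗[k] A →+* T), inferInstance⟩ := rfl
  rw [hh]
  refine Groth.Agent.S2142.result q (Q.comap (e : K ⊗[k] A →+* T)) ?_
  rw [← hq, Ideal.comap_comap]
  congr 1
  refine RingHom.ext fun a => ?_
  simp [e, Algebra.IsPushout.equiv_tmul]

/-- A prime of `K ⊗ A` minimal over the extension of a prime `q` of `A` has the same coheight. -/
theorem ringKrullDim_quotient_eq_of_isPushout (k K : Type u) {A T : Type u} [Field k] [Field K]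
    [Algebra k K] [CommRing A] [Algebra k A]
    [Algebra.FiniteType k A] [CommRing T] [Algebra k T] [Algebra K T] [Algebra A T]
    [IsScalarTower k K T] [IsScalarTower k A T] [Algebra.IsPushout k K A T]
    (Q : Ideal T) [Q.IsPrime] (q : Ideal A) [q.IsPrime]
    (hq : Q.comap (algebraMap A T) = q)
    (hmin : Q ∈ (q.map (algebraMap A T)).minimalPrimes) :
    ringKrullDim (T ⧸ Q) = ringKrullDim (A ⧸ q) := by
  let e : K ⊗[k] A ≃ₐ[K] T := Algebra.IsPushout.equiv k K A T
  haveI : Algebra.FiniteType K T := Algebra.FiniteType.equiv inferInstance e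
  haveI : IsNoetherianRing T := Algebra.FiniteType.isNoetherianRing K T
  haveI : IsNoetherianRing A := Algebra.FiniteType.isNoetherianRing k A
  haveI : Module.Flat A T := by
    have h := (Algebra.IsPushout.symm (inferInstance : Algebra.IsPushout k K A T)).out
    exact Module.Flat.isBaseChange (R := k) (S := A) (M := K) T h
  haveI : Q.LiesOver q := ⟨hq.symm⟩
  have h1 := Ideal.height_eq_height_add_of_liesOver_of_hasGoingDown q Q
  have h0 : (Q.map (Ideal.Quotient.mk (q.map (algebraMap A T)))).height = 0 := by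
    rw [Ideal.minimalPrimes_eq_comap] at hmin
    obtain ⟨P', hP', hPQ⟩ := hmin
    have : Q.map (Ideal.Quotient.mk (q.map (algebraMap A T))) = P' := by
      rw [← hPQ, Ideal.map_comap_of_surjective _ Ideal.Quotient.mk_surjective]
    rw [this]
    haveI := hP'.1.1
    exact Ideal.height_eq_zero_iff.2 hP'
  rw [h0, add_zero] at h1
  have h2 := localDim_eq_of_isPushout k K Q q hq
  rw [Groth.Agent.Lib.lead.AffLocalDim.localDim_eq (k := K) T ⟨Q, inferInstance⟩,
    Groth.Agent.Lib.lead.AffLocalDim.localDim_eq (k := k) A ⟨q, inferInstance⟩] at h2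
  have h3 : Order.height (⟨Q, inferInstance⟩ : PrimeSpectrum T) =
      Order.height (⟨q, inferInstance⟩ : PrimeSpectrum A) := by
    rw [← PrimeSpectrum.height_eq_orderHeight, ← PrimeSpectrum.height_eq_orderHeight]
    exact h1
  have hfin : Order.height (⟨q, inferInstance⟩ : PrimeSpectrum A) ≠ ⊤ := by
    rw [← PrimeSpectrum.height_eq_orderHeight]
    exact Ideal.height_ne_top (Ideal.IsPrime.ne_top inferInstance)
  have h4 : Order.height (⟨q, inferInstance⟩ : PrimeSpectrum A) +
      Order.coheight (⟨Q, inferInstance⟩ : PrimeSpectrum T) =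
      Order.height (⟨q, inferInstance⟩ : PrimeSpectrum A) +
      Order.coheight (⟨q, inferInstance⟩ : PrimeSpectrum A) := by
    have h2' : Order.height (⟨Q, inferInstance⟩ : PrimeSpectrum T) +
        Order.coheight (⟨Q, inferInstance⟩ : PrimeSpectrum T) =
        Order.height (⟨q, inferInstance⟩ : PrimeSpectrum A) +
        Order.coheight (⟨q, inferInstance⟩ : PrimeSpectrum A) := by exact_mod_cast h2
    rw [h3] at h2'
    exact h2'
  have h5 := (ENat.add_right_injective_of_ne_top hfin) h4
  rw [Groth.Agent.Lib.Helper7.AffChain.ringKrullDim_quotient_eq_coheight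
      (⟨Q, inferInstance⟩ : PrimeSpectrum T),
    Groth.Agent.Lib.Helper7.AffChain.ringKrullDim_quotient_eq_coheight
      (⟨q, inferInstance⟩ : PrimeSpectrum A)]
  exact_mod_cast h5

end Groth.Agent.Lib.Helper18.FieldBC
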