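import Mathlib.RingTheory.Spectrum.Prime.Chevalley
import Mathlib.RingTheory.RingHom.Flat
import Mathlib.Topology.KrullDimension
import Groth.Agent.Lib.Helper24.LocalDim.Top
import Groth.Prelude.Def_Flat

set_option autoImplicit false
set_option linter.style.haveILetI false
universe u
open TensorProduct

namespace Groth.Agent.Lib.Helper18.FieldBC

/-- Chains of generizations lift along a generalizing map. -/
theorem lift_chain {X Y : Type*} [TopologicalSpace X] [TopologicalSpace Y] (π : X → Y)
    (hgen : GeneralizingMap π) :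
    ∀ (m : ℕ) (c : Fin (m + 1) → Y), (∀ i : Fin m, c i.castSucc ⤳ c i.succ) →
      ∀ w : X, π w = c (Fin.last m) →
      ∃ d : Fin (m + 1) → X, (∀ i, π (d i) = c i) ∧ (∀ i : Fin m, d i.castSucc ⤳ d i.succ) ∧
        (∀ i, d i ⤳ w) := by
  intro m
  induction m with
  | zero =>
    intro c _ w hw
    refine ⟨fun _ => w, fun i => ?_, fun i => i.elim0, fun _ => specializes_rfl⟩
    rw [hw]
    congr 1
    exact Subsingleton.elim (α := Fin 1) _ _
  | succ m ih =>
    intro c hc w hw
    obtain ⟨d', hd1, hd2, hd3⟩ := ih (fun i => c i.succ) (fun i => by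
      have := hc i.succ
      simpa using this) w (by rw [hw]; rfl)
    have h0 : c 0 ⤳ π (d' 0) := by
      rw [hd1 0]
      exact hc 0
    obtain ⟨x0, hx0, hπ0⟩ := hgen h0
    refine ⟨Fin.cons x0 d', ?_, ?_, ?_⟩
    · intro i
      refine Fin.cases ?_ (fun j => ?_) i
      · simpa using hπ0
      · simpa using hd1 j
    · intro i
      refine Fin.cases ?_ (fun j => ?_) i
      · simpa using hx0
      · have := hd2 j
        simpa using this
    · intro i
      refine Fin.cases ?_ (fun j => ?_) i
      · simpa using hx0.trans (hd3 0)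
      · simpa using hd3 j

/-- A continuous generalizing map does not lower the dimension of open sets. -/
theorem dim_image_le_of_generalizing {X Y : Type*} [TopologicalSpace X] [TopologicalSpace Y]
    [QuasiSober Y] (π : X → Y) (hπc : Continuous π) (hπo : IsOpenMap π) (hgen : GeneralizingMap π)
    (W : Set X) (hW : IsOpen W) :
    topologicalKrullDim ↥(π '' W) ≤ topologicalKrullDim ↥W := by
  haveI : QuasiSober ↥(π '' W) := (hπo W hW).isOpenEmbedding_subtypeVal.quasiSober
  apply Groth.Agent.Lib.Helper24.LocalDim.dim_le_of_specializing_chains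
  intro m c hc
  obtain ⟨w, hwW, hw⟩ := (c (Fin.last m)).2
  obtain ⟨d, hd1, hd2, hd3⟩ := lift_chain π hgen m (fun i => (c i).1)
    (fun i => (subtype_specializes_iff _ _).mp (hc i).1) w hw
  have hdW : ∀ i, d i ∈ W := fun i => (hd3 i).mem_open hW hwW
  refine Groth.Agent.Lib.Helper24.LocalDim.le_dim_of_specializing_chain
    (fun i => (⟨d i, hdW i⟩ : ↥W)) (fun i => ⟨?_, ?_⟩)
  · exact (subtype_specializes_iff _ _).mpr (hd2 i)
  · intro hsp
    apply (hc i).2
    rw [subtype_specializes_iff]
    have := ((subtype_specializes_iff _ _).mp hsp).map hπc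
    rwa [hd1, hd1] at this

end Groth.Agent.Lib.Helper18.FieldBC
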